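import Groth.Agent.CurvSt.K310.DoubleCoverData
import Mathlib.Algebra.Polynomial.SpecificDegree
import Mathlib.FieldTheory.IsAlgClosed.Basic
import Mathlib.RingTheory.AlgebraicIndependent.Transcendental

/-!
# Existence of smooth proper curves of every genus over an algebraically closed field

`exists_curve k g`: a smooth proper connected curve of genus `g`, a double cover of the projective line.
-/

set_option autoImplicit false
set_option linter.unusedSectionVars false
set_option linter.style.haveILetI false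

universe u

open Polynomial CategoryTheory

namespace K310.DoubleCoverExists

open DoubleCoverAlg DoubleCoverSpan DoubleCoverData

section Fractions

variable {k F : Type*} [Field k] [Field F]

theorem intClosed_of_fractions (ρ : k[X] →+* F) (hinj : Function.Injective ρ)
    (h : ∀ z : F, ∃ x y : k[X], z = ρ x / ρ y) : IntClosed ρ := by
  intro y hy
  letI := ρ.toAlgebra
  haveI : FaithfulSMul k[X] F := (faithfulSMul_iff_algebraMap_injective _ _).mpr hinj
  haveI : IsFractionRing k[X] F := IsFractionRing.of_field _ _ fun z => by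
    obtain ⟨x, y, hxy⟩ := h z
    exact ⟨x, y, hxy⟩
  have hy' : IsIntegral k[X] y := hy
  obtain ⟨x, hx⟩ := IsIntegrallyClosed.isIntegral_iff.mp hy'
  exact ⟨x, hx⟩

variable [Algebra k F]

theorem aeval_inv {t : F} (ht : t ≠ 0) (p : k[X]) :
    (aeval t p : F) = aeval t⁻¹ p.reverse / aeval t⁻¹ (X ^ p.natDegree : k[X]) := by
  letI : Invertible t := invertibleOfNonzero ht
  have h := Polynomial.eval₂_reverse_mul_pow (algebraMap k F) t p
  rw [invOf_eq_inv] at h
  rw [aeval_def, ← h, map_pow, aeval_X, inv_pow, div_inv_eq_mul, aeval_def]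

theorem fractions_inv {t : F} (ht : t ≠ 0) (h : ∀ z : F, ∃ x y : k[X], z = aeval t x / aeval t y) (z : F) :
    ∃ x y : k[X], z = aeval t⁻¹ x / aeval t⁻¹ y := by
  obtain ⟨x, y, rfl⟩ := h z
  refine ⟨x.reverse * X ^ y.natDegree, X ^ x.natDegree * y.reverse, ?_⟩
  rw [aeval_inv ht x, aeval_inv ht y, map_mul, map_mul, div_div_div_eq]

end Fractions

section Quad

variable {k : Type u} [Field k]

/-- The rational function field. -/
abbrev Fr (k : Type u) [Field k] : Type u := FractionRing k[X]

/-- The variable. -/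
noncomputable abbrev tt (k : Type u) [Field k] : Fr k := algebraMap k[X] (Fr k) X

theorem aeval_tt (p : k[X]) : aeval (tt k) p = algebraMap k[X] (Fr k) p := by
  have : (aeval (tt k) : k[X] →ₐ[k] Fr k) = IsScalarTower.toAlgHom k k[X] (Fr k) := by
    ext
    simp
  rw [this]
  rfl

theorem tt_injective : Function.Injective (aeval (tt k) : k[X] →ₐ[k] Fr k) := by
  intro p q h
  rw [aeval_tt, aeval_tt] at h
  exact IsFractionRing.injective k[X] (Fr k) h

theorem tt_transcendental : Transcendental k (tt k) :=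
  transcendental_iff_injective.mpr tt_injective

theorem tt_ne_zero : tt k ≠ 0 := by
  rintro h
  have := tt_transcendental (k := k)
  rw [h] at this
  exact this isAlgebraic_zero

theorem tt_fractions (z : Fr k) : ∃ x y : k[X], z = aeval (tt k) x / aeval (tt k) y := by
  obtain ⟨x, y, -, rfl⟩ := IsFractionRing.div_surjective (A := k[X]) z
  exact ⟨x, y, by rw [aeval_tt, aeval_tt]⟩

theorem intClosed0 : IntClosed (aeval (tt k) : k[X] →ₐ[k] Fr k).toRingHom :=
  intClosed_of_fractions _ tt_injective tt_fractions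

theorem tinv_injective : Function.Injective (aeval (tt k)⁻¹ : k[X] →ₐ[k] Fr k) := by
  refine transcendental_iff_injective.mp fun h => tt_transcendental (k := k) ?_
  simpa using h.inv

theorem intClosed1 : IntClosed (aeval (tt k)⁻¹ : k[X] →ₐ[k] Fr k).toRingHom :=
  intClosed_of_fractions _ tinv_injective (fractions_inv tt_ne_zero tt_fractions)

/-- The quadratic polynomial. -/
noncomputable def qp (h f : Fr k) : (Fr k)[X] := X ^ 2 + C h * X - C f

theorem qp_monic (h f : Fr k) : (qp h f).Monic := by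
  unfold qp
  monicity!

theorem qp_natDegree (h f : Fr k) : (qp h f).natDegree = 2 := by
  unfold qp
  compute_degree!

theorem qp_irreducible {h f : Fr k} (hr : ∀ a : Fr k, a ^ 2 + h * a ≠ f) : Irreducible (qp h f) := by
  refine irreducible_of_degree_le_three_of_not_isRoot (by rw [qp_natDegree]; decide) fun a ha => hr a ?_
  have : a ^ 2 + h * a - f = 0 := by simpa [qp] using ha
  exact sub_eq_zero.mp this

/-- There is a quadratic function field with the integral bases prescribed by `n`. -/
def HasData (k : Type u) [Field k] (n : ℕ) : Prop :=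
  ∃ (h f : Fr k) (K : Type u) (_ : Field K) (_ : Algebra (Fr k) K) (_ : Algebra k K)
    (_ : IsScalarTower k (Fr k) K) (_ : Algebra.EssFiniteType k K) (w : K),
    Algebra.trdeg k K = 1 ∧ IsData k (tt k) w n h f

/-- A quadratic extension exists as soon as the arithmetic conditions hold. -/
theorem hasData_of_good (n : ℕ) (h f : Fr k) (hr : ∀ a : Fr k, a ^ 2 + h * a ≠ f)
    (good0 : Good (aeval (tt k) : k[X] →ₐ[k] Fr k).toRingHom h f)
    (h0 : h ∈ (aeval (tt k) : k[X] →ₐ[k] Fr k).range)
    (f0 : f ∈ (aeval (tt k) : k[X] →ₐ[k] Fr k).range)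
    (good1 : Good (aeval (tt k)⁻¹ : k[X] →ₐ[k] Fr k).toRingHom ((tt k)⁻¹ ^ n * h)
      ((tt k)⁻¹ ^ (2 * n) * f))
    (h1 : (tt k)⁻¹ ^ n * h ∈ (aeval (tt k)⁻¹ : k[X] →ₐ[k] Fr k).range)
    (f1 : (tt k)⁻¹ ^ (2 * n) * f ∈ (aeval (tt k)⁻¹ : k[X] →ₐ[k] Fr k).range) :
    HasData k n := by
  haveI : Fact (Irreducible (qp h f)) := ⟨qp_irreducible hr⟩
  let K := AdjoinRoot (qp h f)
  let w : K := AdjoinRoot.root (qp h f)
  have hq : ∀ y : K, aeval y (qp h f) = y ^ 2 + algebraMap (Fr k) K h * y - algebraMap (Fr k) K f := by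
    intro y
    simp [qp]
  have hw : w ^ 2 + algebraMap (Fr k) K h * w = algebraMap (Fr k) K f := by
    have h2 : aeval w (qp h f) = 0 := by
      rw [AdjoinRoot.aeval_eq, AdjoinRoot.mk_self]
    rw [hq] at h2
    exact sub_eq_zero.mp h2
  have hfin : Module.Finite (Fr k) K := (qp_monic h f).finite_adjoinRoot
  have hinjK : Function.Injective (algebraMap k[X] K) := by
    rw [IsScalarTower.algebraMap_eq k[X] (Fr k) K]
    exact (algebraMap (Fr k) K).injective.comp (IsFractionRing.injective k[X] (Fr k))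
  haveI : FaithfulSMul k[X] K := (faithfulSMul_iff_algebraMap_injective _ _).mpr hinjK
  haveI : Algebra.IsAlgebraic k[X] K :=
    (IsFractionRing.comap_isAlgebraic_iff (A := k[X]) (K := Fr k) (C := K)).mpr inferInstance
  haveI : FaithfulSMul k k[X] := (faithfulSMul_iff_algebraMap_injective _ _).mpr C_injective
  have htr : Algebra.trdeg k K = 1 := by
    rw [← trdeg_add_eq k k[X] (A := K), Polynomial.trdeg_of_isDomain, trdeg_eq_zero, add_zero]
  haveI : Algebra.EssFiniteType k[X] (Fr k) := Algebra.EssFiniteType.of_isLocalization _ (nonZeroDivisors k[X])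
  haveI : Algebra.EssFiniteType k (Fr k) := Algebra.EssFiniteType.comp k k[X] (Fr k)
  haveI : Algebra.EssFiniteType k K := Algebra.EssFiniteType.comp k (Fr k) K
  have hwF : ∀ a : Fr k, w ≠ algebraMap (Fr k) K a := by
    intro a ha
    refine hr a ((algebraMap (Fr k) K).injective ?_)
    rw [map_add, map_mul, map_pow, ← ha]
    exact hw
  have H : IsData k (tt k) w n h f :=
    { ht := tt_transcendental
      hw := hw
      hlin := by
        rw [LinearIndependent.pair_iff]
        intro a b hab
        have hb : b = 0 := by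
          by_contra hb
          refine hwF (-a / b) ?_
          have hb' : algebraMap (Fr k) K b ≠ 0 := (_root_.map_ne_zero _).mpr hb
          rw [map_div₀, map_neg, eq_div_iff hb']
          simp only [Algebra.smul_def, mul_one] at hab
          linear_combination hab
        subst hb
        simp only [Algebra.smul_def, mul_one, map_zero, zero_mul, add_zero] at hab
        exact ⟨(_root_.map_eq_zero _).mp hab, rfl⟩
      hspan := by
        intro x
        obtain ⟨g, rfl⟩ := AdjoinRoot.mk_surjective x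
        have h2 : AdjoinRoot.mk (qp h f) g = AdjoinRoot.mk (qp h f) (g %ₘ qp h f) := by
          rw [AdjoinRoot.mk_eq_mk]
          exact ⟨g /ₘ qp h f, by
            have := Polynomial.modByMonic_add_div g (qp h f)
            linear_combination -this⟩
        have h3 : (g %ₘ qp h f).natDegree ≤ 1 := by
          have := Polynomial.natDegree_modByMonic_lt g (qp_monic h f) (by
            intro h4
            have := qp_natDegree h f
            rw [h4] at this
            simp at this)
          rw [qp_natDegree] at this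
          omega
        obtain ⟨b, a, h4⟩ := Polynomial.exists_eq_X_add_C_of_natDegree_le_one h3
        refine ⟨a, b, ?_⟩
        rw [h2, h4]
        simp only [map_add, map_mul, AdjoinRoot.mk_X, AdjoinRoot.mk_C]
        rw [add_comm]
        rfl
      hφ := by
        refine ⟨AdjoinRoot.liftAlgHom (qp h f) (Algebra.ofId (Fr k) K) (-algebraMap (Fr k) K h - w) ?_, ?_⟩
        · change eval₂ (algebraMap (Fr k) K) _ _ = 0
          rw [← aeval_def, hq]
          linear_combination hw
        · exact AdjoinRoot.liftAlgHom_root _ _ _ _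
      int0 := intClosed0
      good0 := good0
      h0 := h0
      f0 := f0
      int1 := intClosed1
      good1 := good1
      h1 := h1
      f1 := f1 }
  exact ⟨h, f, K, inferInstance, inferInstance, inferInstance, inferInstance, inferInstance, w, htr, H⟩

/-- Odd characteristic: `w² = ∏ (t - aᵢ)` with `2 n` distinct nonzero `aᵢ`. -/
theorem hasData_odd (k : Type u) [Field k] [IsAlgClosed k] (h2 : (2 : k) ≠ 0) (n : ℕ) (hn : 1 ≤ n) :
    HasData k n := by
  haveI : Infinite k := IsAlgClosed.instInfinite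
  obtain ⟨a, ha⟩ : ∃ a : Fin (2 * n) → k, Function.Injective a ∧ ∀ i, a i ≠ 0 := by
    classical
    obtain ⟨s, hs⟩ := Infinite.exists_subset_card_eq k (2 * n + 1)
    have h3 : 2 * n ≤ (s.erase 0).card := by
      have := Finset.pred_card_le_card_erase (s := s) (a := (0 : k))
      omega
    obtain ⟨u, hu, hc⟩ := Finset.exists_subset_card_eq h3
    refine ⟨fun i => (u.equivFinOfCardEq hc).symm i, fun i j hij => ?_, fun i hi => ?_⟩
    · exact (u.equivFinOfCardEq hc).symm.injective (Subtype.ext hij)
    · have h4 := Finset.mem_erase.mp (hu ((u.equivFinOfCardEq hc).symm i).2)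
      exact h4.1 hi
  obtain ⟨hinj, hne⟩ := ha
  let p0 : k[X] := ∏ i, (X - C (a i))
  let p1 : k[X] := ∏ i, (X - C (a i)⁻¹)
  have hs0 : Squarefree p0 := (separable_prod_X_sub_C_iff.mpr hinj).squarefree
  have hs1 : Squarefree p1 :=
    (separable_prod_X_sub_C_iff.mpr (fun i j h => hinj (inv_injective h))).squarefree
  let c : k := ∏ i, (-(a i))
  have hc : c ≠ 0 := Finset.prod_ne_zero_iff.mpr fun i _ => neg_ne_zero.mpr (hne i)
  let q1 : k[X] := C c * p1
  have hs1' : Squarefree q1 := by
    have : Associated p1 q1 := ⟨(isUnit_C.mpr hc.isUnit).unit, by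
      rw [IsUnit.unit_spec]; exact mul_comm _ _⟩
    exact this.squarefree_iff.mp hs1
  have h20 : (tt k)⁻¹ ^ (2 * n) * aeval (tt k) p0 = aeval (tt k)⁻¹ q1 := by
    simp only [p0, q1, p1, c, map_prod, map_mul, map_sub, aeval_X, aeval_C, map_neg, map_inv₀]
    rw [← Finset.prod_mul_distrib]
    have h3 : ((tt k)⁻¹ : Fr k) ^ (2 * n) = ∏ i : Fin (2 * n), (tt k)⁻¹ := by simp
    rw [h3, ← Finset.prod_mul_distrib]
    refine Finset.prod_congr rfl fun i _ => ?_
    have h4 : algebraMap k (Fr k) (a i) ≠ 0 := (_root_.map_ne_zero _).mpr (hne i)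
    have h5 := tt_ne_zero (k := k)
    field_simp
    ring
  have h2' : ∀ ρ : k[X] →ₐ[k] Fr k, ρ.toRingHom (C (2 : k)⁻¹) * 2 = 1 := by
    intro ρ
    have h3 : (2 : Fr k) = ρ (C 2) := by rw [map_ofNat, map_ofNat]
    change ρ (C (2 : k)⁻¹) * 2 = 1
    rw [h3, ← map_mul, ← C_mul, inv_mul_cancel₀ h2, C_1, map_one]
  refine hasData_of_good n 0 (aeval (tt k) p0) ?_ ?_ (zero_mem _) ⟨p0, rfl⟩ ?_ ?_ ?_
  · -- not a square
    intro y hy
    rw [zero_mul, add_zero] at hy
    obtain ⟨e, he⟩ := mem_of_sq intClosed0 (y := y) (u := 0) (v := aeval (tt k) p0) (zero_mem _) ⟨p0, rfl⟩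
      (by rw [zero_mul, add_zero, hy])
    have h3 : e ^ 2 = p0 := tt_injective (by
      rw [map_pow]
      change ((aeval (tt k) : k[X] →ₐ[k] Fr k).toRingHom e) ^ 2 = _
      rw [he, hy])
    have h4 : IsUnit e := hs0 e ⟨1, by rw [mul_one, ← h3, sq]⟩
    have h5 : p0.natDegree = 0 := by
      rw [← h3]
      exact natDegree_eq_zero_of_isUnit (h4.pow 2)
    have h6 : p0.natDegree = 2 * n := by
      simp only [p0]
      rw [natDegree_prod_of_monic _ _ (fun i _ => monic_X_sub_C _)]
      simp
    omega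
  · exact good_sq tt_injective intClosed0 (C (2 : k)⁻¹) (h2' _) p0 hs0 hs0.ne_zero
  · rw [h20, mul_zero]
    exact good_sq tinv_injective intClosed1 (C (2 : k)⁻¹) (h2' _) q1 hs1' hs1'.ne_zero
  · rw [mul_zero]
    exact zero_mem _
  · rw [h20]
    exact ⟨q1, rfl⟩

/-- Characteristic two: `w² + w = t ^ (2 n - 1)`. -/
theorem hasData_two (k : Type u) [Field k] [CharP k 2] (n : ℕ) (hn : 1 ≤ n) :
    HasData k n := by
  haveI : CharP (Fr k) 2 := charP_of_injective_algebraMap (algebraMap k (Fr k)).injective 2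
  have h5 := tt_ne_zero (k := k)
  have h3 : (tt k)⁻¹ ^ (2 * n) * aeval (tt k) (X ^ (2 * n - 1) : k[X]) = (tt k)⁻¹ := by
    obtain ⟨m, hm⟩ : ∃ m, 2 * n = m + 1 := ⟨2 * n - 1, by omega⟩
    rw [map_pow, aeval_X, hm, Nat.add_sub_cancel, inv_pow]
    field_simp
    rw [pow_succ]
  have hX : (aeval (tt k)⁻¹ : k[X] →ₐ[k] Fr k).toRingHom X = (tt k)⁻¹ := aeval_X _
  refine hasData_of_good n 1 (aeval (tt k) (X ^ (2 * n - 1) : k[X])) ?_ ?_ (one_mem _) ⟨_, rfl⟩ ?_ ?_ ?_
  · intro y hy
    obtain ⟨e, he⟩ := mem_of_sq intClosed0 (y := y) (u := 1) (v := aeval (tt k) (X ^ (2 * n - 1) : k[X]))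
      (one_mem _) ⟨_, rfl⟩ hy
    have h6 : e ^ 2 + e = X ^ (2 * n - 1) := tt_injective (by
      rw [map_add, map_pow]
      change ((aeval (tt k) : k[X] →ₐ[k] Fr k).toRingHom e) ^ 2 +
        ((aeval (tt k) : k[X] →ₐ[k] Fr k).toRingHom e) = _
      rw [he, ← hy, one_mul])
    have h7 : (e ^ 2 + e).natDegree = 2 * n - 1 := by rw [h6, natDegree_X_pow]
    rcases Nat.eq_zero_or_pos e.natDegree with h8 | h8
    · obtain ⟨c, rfl⟩ := natDegree_eq_zero.mp h8
      have : (C c ^ 2 + C c : k[X]).natDegree = 0 := by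
        rw [← C_pow, ← C_add, natDegree_C]
      omega
    · have h9 : (e ^ 2 + e).natDegree = 2 * e.natDegree := by
        rw [natDegree_add_eq_left_of_natDegree_lt, natDegree_pow]
        rw [natDegree_pow]
        omega
      omega
  · exact good_one intClosed0 _ ⟨_, rfl⟩
  · rw [h3, mul_one]
    have := good_pow (k := k) tinv_injective intClosed1 n hn
    rw [hX] at this
    exact this
  · rw [mul_one]
    exact ⟨X ^ n, by simp⟩
  · rw [h3]
    exact ⟨X, aeval_X _⟩

theorem hasData (k : Type u) [Field k] [IsAlgClosed k] (n : ℕ) (hn : 1 ≤ n) : HasData k n := by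
  by_cases h2 : (2 : k) = 0
  · haveI : CharP k 2 := CharTwo.of_one_ne_zero_of_two_eq_zero one_ne_zero h2
    exact hasData_two k n hn
  · exact hasData_odd k h2 n hn

end Quad

/-- For every `g` there is a smooth proper connected curve of genus `g` over every algebraically closed field,
finite over the projective line. -/
theorem exists_cover (k : Type u) [Field k] [IsAlgClosed k] (g : ℕ) :
    ∃ (X : AlgebraicGeometry.Scheme.{u}) (ν : X ⟶ CohB1.ProjSpace 1 k), AlgebraicGeometry.IsFinite ν ∧
      Curve.IsSmoothProperCurve k X (ν ≫ CohB1.ProjSpace.toSpec 1 k) ∧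
      @Curv2.genus k _ X ⟨ν ≫ CohB1.ProjSpace.toSpec 1 k⟩ = g := by
  obtain ⟨h, f, K, _, _, _, _, _, w, htr, H⟩ := hasData k (g + 1) (by omega)
  exact H.exists_curve htr

theorem exists_curve (k : Type u) [Field k] [IsAlgClosed k] (g : ℕ) :
    ∃ (X : AlgebraicGeometry.Scheme.{u}) (f : X ⟶ AlgebraicGeometry.Spec (CommRingCat.of k)),
      Curve.IsSmoothProperCurve k X f ∧ @Curv2.genus k _ X ⟨f⟩ = g := by
  obtain ⟨X, ν, -, h1, h2⟩ := exists_cover k g
  exact ⟨X, _, h1, h2⟩

end K310.DoubleCoverExists
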