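import Groth.Agent.CurvSt.K310.DoubleCoverExists
import Groth.Agent.Models.H112.NodalFam
import Groth.Agent.EssDim.K995.GenusField
import Groth.Agent.Etcore.CurveOpen
import Groth.Agent.Fdesc.GeomAlgClosed
import Groth.Agent.S0023
import Groth.Agent.Flat2B.SmoothGeom
import Groth.Prelude.Def_StCurv
import Mathlib.AlgebraicGeometry.AlgClosed.Basic

/-!
# Smooth and stable pointed curves of every genus over every algebraically closed field

* `isStableFam_of_isSmoothPtdFam`: a smooth `n`-pointed family of genus `g` is stable when `3 ≤ 2 g + n`;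
* `exists_isCurveOfGenus`, `exists_isSmoothPtdFam`, `exists_isStableFam` over an algebraically closed field;
* `nonempty_Mgn_fiber`, `nonempty_Mbar_fiber`: the fibres of `Mgn S g n` and `Mbar S g n` over geometric
  points are nonempty.
-/

set_option autoImplicit false
set_option linter.style.haveILetI false

universe u

open CategoryTheory CategoryTheory.Limits AlgebraicGeometry

namespace K310.ExistsCurve

open Groth.Agent

section Stable

/-- The genus of the projective line is zero. -/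
theorem genus_line (Ω : Type u) [Field Ω] :
    (letI : (CohB1.ProjSpace 1 Ω).Over (Spec (CommRingCat.of Ω)) := ⟨CohB1.ProjSpace.toSpec 1 Ω⟩
     Curv2.genus Ω (CohB1.ProjSpace 1 Ω)) = 0 := by
  have h1 := Groth.Agent.S0023.result 1 Ω 1 one_pos
  letI : (CohB1.ProjSpace 1 Ω).Over (Spec (CommRingCat.of Ω)) := ⟨CohB1.ProjSpace.toSpec 1 Ω⟩
  exact Module.finrank_zero_of_subsingleton

/-- If a reduced scheme is the image of a closed immersion of `P¹`, its genus is zero. -/
theorem genus_eq_zero_of_range_eq_univ {Ω : Type u} [Field Ω] {X : Scheme.{u}}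
    (q : X ⟶ Spec (CommRingCat.of Ω)) [IsReduced X] (e : CohB1.ProjSpace 1 Ω ⟶ X) [IsClosedImmersion e]
    (he : e ≫ q = CohB1.ProjSpace.toSpec 1 Ω) (hr : Set.range e.base = Set.univ) :
    (letI : X.Over (Spec (CommRingCat.of Ω)) := ⟨q⟩
     Curv2.genus Ω X) = 0 := by
  haveI : Surjective e := ⟨Set.range_eq_univ.mp hr⟩
  haveI : IsIso e := isIso_of_isClosedImmersion_of_surjective e
  haveI : IsProper (CohB1.ProjSpace.toSpec 1 Ω) := LineTwoCharts.isProper_toSpec Ω
  haveI : IsIso (Spec.map (CommRingCat.ofHom (RingHom.id Ω))) := by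
    rw [show CommRingCat.ofHom (RingHom.id Ω) = 𝟙 _ from rfl, Spec.map_id]
    infer_instance
  have hsq : IsPullback e (CohB1.ProjSpace.toSpec 1 Ω) q
      (Spec.map (CommRingCat.ofHom (RingHom.id Ω))) :=
    IsPullback.of_horiz_isIso ⟨by rw [he]; simp⟩
  haveI : IsProper q := by
    have : q = inv e ≫ CohB1.ProjSpace.toSpec 1 Ω := by rw [← he]; simp
    rw [this]
    infer_instance
  have h1 := K995.GenusField.genus_eq_of_isPullback Ω X q Ω (RingHom.id Ω) _ _ e hsq 1
  exact h1.symm.trans (genus_line Ω)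

theorem isClosed_of_section {Ω : Type u} [Field Ω] {X : Scheme.{u}} (q : X ⟶ Spec (CommRingCat.of Ω))
    [IsSeparated q] (s : Spec (CommRingCat.of Ω) ⟶ X) (hs : s ≫ q = 𝟙 _) :
    IsClosed ({s.base (IsLocalRing.closedPoint Ω)} : Set X) := by
  have h1 := isClosedImmersion_of_comp_eq_id _ _ hs
  have h2 := s.isClosedEmbedding.isClosed_range
  rwa [Set.range_eq_singleton] at h2
  exact fun x ↦ congr(s $(Subsingleton.elim _ _))

variable {C T : Scheme.{u}} {f : C ⟶ T} {g n : ℕ}

theorem isStableFam_of_isSmoothPtdFam (σ : Fin n → (T ⟶ C)) (hσ : ∀ i, σ i ≫ f = 𝟙 T)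
    (h : CurvSt.IsSmoothPtdFam f σ g) (hgn : 3 ≤ 2 * g + n) : CurvSt.IsStableFam f σ hσ g := by
  obtain ⟨⟨hsm, hpr, hirr, hfib⟩, hdis⟩ := h
  refine ⟨inferInstance, hpr, inferInstance, fun Ω _ _ t X i q hP => ?_⟩
  obtain ⟨hd, hg⟩ := hfib Ω t X i q hP
  haveI hq : Smooth q := MorphismProperty.of_isPullback hP hsm
  haveI hqp : IsProper q := MorphismProperty.of_isPullback hP hpr
  haveI : IrreducibleSpace X :=
    GeometricallyIrreducible.geometrically_irreducibleSpace (f := f) _ _ _ hP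
  haveI : IsReduced X := Flat2B.SmoothGeom.isReduced_of_smooth q
  have hlift : ∀ j, hP.lift (t ≫ σ j) (𝟙 _) (by rw [Category.assoc, hσ, Category.comp_id, Category.id_comp]) ≫ q
      = 𝟙 _ := fun j => hP.lift_snd _ _ _
  refine ⟨hqp, inferInstance, hd, ⟨Groth.Agent.Models.H112.NodalFam.atWorstNodal_of_smooth q, hg⟩, ?_, ?_, ?_, hgn⟩
  · intro a b hab
    by_contra hne
    refine hdis a b hne (t.base (IsLocalRing.closedPoint Ω)) ?_
    have h1 := congrArg i.base hab
    have h2 : ∀ j, i.base (CurvSt.markedPt σ hσ hP j) = (σ j).base (t.base (IsLocalRing.closedPoint Ω)) := by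
      intro j
      have := congrArg (fun φ => φ.base (IsLocalRing.closedPoint Ω)) (hP.lift_fst (t ≫ σ j) (𝟙 _)
        (by rw [Category.assoc, hσ, Category.comp_id, Category.id_comp]))
      exact this
    rw [← h2, ← h2, h1]
  · intro j
    refine ⟨?_, ⊤, trivial, inferInstance⟩
    exact isClosed_of_section q _ (hlift j)
  · rintro E ⟨hE, e, he, heq, hr⟩
    have hEu : E = Set.univ := by
      rw [irreducibleComponents_eq_singleton] at hE
      exact hE
    subst hEu
    have h0 := genus_eq_zero_of_range_eq_univ q e heq hr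
    have hg0 : g = 0 := hg.symm.trans h0
    subst hg0
    have h3 : Nat.card {j : Fin n // CurvSt.markedPt σ hσ hP j ∈ (Set.univ : Set X)} = n := by
      simp
    rw [h3]
    refine le_trans ?_ le_add_self
    have : 3 ≤ n := by omega
    exact_mod_cast this

end Stable

section Field

variable (k : Type u) [Field k] [IsAlgClosed k]

theorem isCurveOfGenus_of_isSmoothProperCurve {X : Scheme.{u}} {f : X ⟶ Spec (CommRingCat.of k)}
    (h : Curve.IsSmoothProperCurve k X f) {g : ℕ} (hg : @Curv2.genus k _ X ⟨f⟩ = g) :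
    ModFun.IsCurveOfGenus g f := by
  obtain ⟨h1, h2, h3, h4⟩ := h
  rw [K995.GenusField.isCurveOfGenus_iff]
  exact ⟨h2, h1, Fdesc.GeomAlgClosed.geometricallyIrreducible_of_irreducibleSpace f, h4, hg⟩

/-- A curve of genus `g` over an algebraically closed field exists. -/
theorem exists_isCurveOfGenus (g : ℕ) :
    ∃ (X : Scheme.{u}) (q : X ⟶ Spec (CommRingCat.of k)), Curve.IsSmoothProperCurve k X q ∧
      ModFun.IsCurveOfGenus g q := by
  obtain ⟨X, q, h, hg⟩ := DoubleCoverExists.exists_curve k g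
  exact ⟨X, q, h, isCurveOfGenus_of_isSmoothProperCurve k h hg⟩

/-- A curve over an algebraically closed field has `n` distinct rational points. -/
theorem exists_sections {X : Scheme.{u}} (q : X ⟶ Spec (CommRingCat.of k)) [LocallyOfFiniteType q]
    [IsIntegral X] (hdim : topologicalKrullDim X = 1) (n : ℕ) :
    ∃ σ : Fin n → (Spec (CommRingCat.of k) ⟶ X), (∀ i, σ i ≫ q = 𝟙 _) ∧
      ∀ i j, i ≠ j → ∀ c, (σ i).base c ≠ (σ j).base c := by
  have hJ : JacobsonSpace X := LocallyOfFiniteType.jacobsonSpace q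
  have h1 : Infinite X := Etcore.CurveOpen.infinite_of_krullDim_eq_one X hdim
  have hinf : (closedPoints X).Infinite := by
    intro hfin
    have hc : IsClosed (closedPoints X) := by
      rw [← Set.biUnion_of_singleton (closedPoints X)]
      exact hfin.isClosed_biUnion fun x hx => hx
    have h2 : closedPoints X = Set.univ := by
      rw [← hc.closure_eq, closure_closedPoints]
    rw [h2] at hfin
    exact Set.infinite_univ hfin
  obtain ⟨s, hs, hcard⟩ := hinf.exists_subset_card_eq n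
  let e := (s.equivFinOfCardEq hcard).symm
  have hcl : ∀ i, IsClosed ({(e i : X)} : Set X) := fun i => hs (e i).2
  refine ⟨fun i => pointOfClosedPoint q (e i) (hcl i), fun i => pointOfClosedPoint_comp _ _ _, ?_⟩
  intro i j hij c h
  refine hij (e.injective (Subtype.ext ?_))
  have h3 := pointOfClosedPoint_apply q (e i : X) (hcl i) c
  have h4 := pointOfClosedPoint_apply q (e j : X) (hcl j) c
  exact h3.symm.trans (h.trans h4)

theorem exists_isSmoothPtdFam (g n : ℕ) :
    ∃ (X : Scheme.{u}) (q : X ⟶ Spec (CommRingCat.of k)) (σ : Fin n → (Spec (CommRingCat.of k) ⟶ X)),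
      Curve.IsSmoothProperCurve k X q ∧ (∀ i, σ i ≫ q = 𝟙 _) ∧ CurvSt.IsSmoothPtdFam q σ g := by
  obtain ⟨X, q, h, hg⟩ := exists_isCurveOfGenus k g
  obtain ⟨h1, h2, h3, h4⟩ := id h
  obtain ⟨σ, hσ, hd⟩ := exists_sections k q h4 n
  exact ⟨X, q, σ, h, hσ, hg, hd⟩

theorem exists_isStableFam (g n : ℕ) (hgn : 3 ≤ 2 * g + n) :
    ∃ (X : Scheme.{u}) (q : X ⟶ Spec (CommRingCat.of k)) (σ : Fin n → (Spec (CommRingCat.of k) ⟶ X))
      (hσ : ∀ i, σ i ≫ q = 𝟙 _), CurvSt.IsSmoothPtdFam q σ g ∧ CurvSt.IsStableFam q σ hσ g := by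
  obtain ⟨X, q, σ, -, hσ, h⟩ := exists_isSmoothPtdFam k g n
  exact ⟨X, q, σ, hσ, h, isStableFam_of_isSmoothPtdFam σ hσ h hgn⟩

variable {k}

theorem nonempty_Mgn_fiber {S : Scheme.{u}} (t : Spec (CommRingCat.of k) ⟶ S) (g n : ℕ) :
    Nonempty ((CurvSt.Mgn S g n).p.Fiber (Over.mk t)) := by
  obtain ⟨X, q, σ, -, hσ, h⟩ := exists_isSmoothPtdFam k g n
  exact ⟨⟨⟨⟨Over.mk t, X, q, σ, hσ⟩, h⟩, rfl⟩⟩

theorem nonempty_Mbar_fiber {S : Scheme.{u}} (t : Spec (CommRingCat.of k) ⟶ S) (g n : ℕ)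
    (hgn : 3 ≤ 2 * g + n) :
    Nonempty ((CurvSt.Mbar S g n).p.Fiber (Over.mk t)) := by
  obtain ⟨X, q, σ, hσ, -, h⟩ := exists_isStableFam k g n hgn
  exact ⟨⟨⟨⟨Over.mk t, X, q, σ, hσ⟩, h⟩, rfl⟩⟩

end Field

end K310.ExistsCurve
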