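import Groth.Agent.CurvSt.K310.CoverDegree

/-!
# Covers of the projective line from integral bases over the two charts

`exists_cover_of_basis`: let `B` be a basis of `K` over `F`, `t ∈ F` transcendental over `k`, such that the elements of `K`
integral over `k[t]` are the `∑ cⱼ Bⱼ` with `cⱼ ∈ k[t]` and those integral over `k[t⁻¹]` are the `∑ cⱼ Bⱼ` with
`t ^ eⱼ cⱼ ∈ k[t⁻¹]`.  Then the smooth proper curve of `K` is finite locally free over `P¹` of degree the number of
elements of `B` and its genus is `∑ (eⱼ - 1)`.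
-/

set_option autoImplicit false
set_option linter.style.haveILetI false
set_option linter.unusedSectionVars false

universe u

open CategoryTheory CategoryTheory.Limits AlgebraicGeometry Polynomial

namespace K310.BasisCover

open Groth.Agent Groth.Agent.Ega2.NormChart DoubleCoverSpan DoubleCoverData

section Alg

variable {k F K : Type*} [Field k] [Field F] [Field K] [Algebra k F] [Algebra F K] [Algebra k K]
  [IsScalarTower k F K] {d : ℕ}

/-- The family `t ^ i B_j`. -/
def fam (t : F) (B : Fin d → K) (p : ℤ × Fin d) : K := (t ^ p.1 : F) • B p.2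

theorem fam_linearIndependent {t : F} (ht : Transcendental k t) {B : Fin d → K}
    (hB : LinearIndependent F B) : LinearIndependent k (fam t B) :=
  linearIndependent_smul (zpow_linearIndependent ht) hB

/-- Elements of the span of part of the family. -/
theorem mem_span_iff {t : F} (B : Fin d → K) (T : Fin d → Set ℤ) (x : K) :
    x ∈ Submodule.span k (fam t B '' {p | p.1 ∈ T p.2}) ↔
      ∃ c : Fin d → F, (∀ j, c j ∈ Submodule.span k ((fun i : ℤ => t ^ i) '' T j)) ∧ x = ∑ j, c j • B j := by
  classical
  constructor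
  · intro hx
    induction hx using Submodule.span_induction with
    | mem x hx =>
      obtain ⟨⟨i, j⟩, hi, rfl⟩ := hx
      refine ⟨Pi.single j (t ^ i), fun j' => ?_, ?_⟩
      · by_cases hj : j' = j
        · subst hj
          rw [Pi.single_eq_same]
          exact Submodule.subset_span ⟨i, hi, rfl⟩
        · rw [Pi.single_eq_of_ne hj]
          exact zero_mem _
      · rw [Finset.sum_eq_single j]
        · simp [fam]
        · intro j' _ hj'
          simp [Pi.single_eq_of_ne hj']
        · simp
    | zero => exact ⟨0, fun _ => zero_mem _, by simp⟩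
    | add x y _ _ hx hy =>
      obtain ⟨c, hc, rfl⟩ := hx
      obtain ⟨c', hc', rfl⟩ := hy
      refine ⟨c + c', fun j => add_mem (hc j) (hc' j), ?_⟩
      simp [add_smul, Finset.sum_add_distrib]
    | smul a x _ hx =>
      obtain ⟨c, hc, rfl⟩ := hx
      refine ⟨a • c, fun j => Submodule.smul_mem _ a (hc j), ?_⟩
      simp [Finset.smul_sum, smul_assoc]
  · rintro ⟨c, hc, rfl⟩
    refine sum_mem fun j _ => ?_
    have key : ∀ y ∈ Submodule.span k ((fun i : ℤ => t ^ i) '' T j),
        y • B j ∈ Submodule.span k (fam t B '' {p | p.1 ∈ T p.2}) := by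
      intro y hy
      induction hy using Submodule.span_induction with
      | mem y hy =>
        obtain ⟨i, hi, rfl⟩ := hy
        exact Submodule.subset_span ⟨(i, j), hi, rfl⟩
      | zero => rw [zero_smul]; exact zero_mem _
      | add y z _ _ hy hz => rw [add_smul]; exact add_mem hy hz
      | smul a y _ hy => rw [smul_assoc]; exact Submodule.smul_mem _ a hy
    exact key _ (hc j)

theorem span_nonneg (t : F) :
    Submodule.span k ((fun i : ℤ => t ^ i) '' {i | 0 ≤ i}) = Subalgebra.toSubmodule (Algebra.adjoin k {t}) := by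
  rw [Algebra.adjoin_singleton_eq_range_aeval]
  refine le_antisymm (Submodule.span_le.mpr ?_) ?_
  · rintro _ ⟨i, hi, rfl⟩
    obtain ⟨m, rfl⟩ := Int.eq_ofNat_of_zero_le (show (0 : ℤ) ≤ i from hi)
    exact ⟨X ^ m, by simp⟩
  · rintro _ ⟨p, rfl⟩
    induction p using Polynomial.induction_on' with
    | add p q hp hq =>
      simp only [AlgHom.toRingHom_eq_coe, RingHom.coe_coe, map_add] at hp hq ⊢
      exact add_mem hp hq
    | monomial i c =>
      simp only [AlgHom.toRingHom_eq_coe, RingHom.coe_coe, aeval_monomial, ← Algebra.smul_def]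
      exact Submodule.smul_mem _ _ (Submodule.subset_span ⟨(i : ℤ), by simp, by simp⟩)

theorem mem_span_le_iff {t : F} (ht : t ≠ 0) (e : ℕ) (y : F) :
    y ∈ Submodule.span k ((fun i : ℤ => t ^ i) '' {i | i ≤ -(e : ℤ)}) ↔
      t ^ e * y ∈ Algebra.adjoin k {t⁻¹} := by
  have h1 : ∀ z : F, z ∈ Submodule.span k ((fun i : ℤ => t ^ i) '' {i | i ≤ 0}) ↔
      z ∈ Algebra.adjoin k {t⁻¹} := by
    intro z
    have h2 : (fun i : ℤ => t ^ i) '' {i | i ≤ 0} = (fun i : ℤ => t⁻¹ ^ i) '' {i | 0 ≤ i} := by
      ext w
      constructor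
      · rintro ⟨i, hi, rfl⟩
        exact ⟨-i, by simpa using hi, by simp⟩
      · rintro ⟨i, hi, rfl⟩
        exact ⟨-i, by simpa using hi, by simp⟩
    rw [h2, span_nonneg]
    rfl
  rw [← h1]
  constructor
  · intro hy
    induction hy using Submodule.span_induction with
    | mem y hy =>
      obtain ⟨i, hi, rfl⟩ := hy
      refine Submodule.subset_span ⟨e + i, ?_, ?_⟩
      · have : i ≤ -(e : ℤ) := hi
        change (e : ℤ) + i ≤ 0
        omega
      · simp only
        rw [zpow_add₀ ht, zpow_natCast]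
    | zero => rw [mul_zero]; exact zero_mem _
    | add y z _ _ hy hz => rw [mul_add]; exact add_mem hy hz
    | smul a y _ hy => rw [mul_smul_comm]; exact Submodule.smul_mem _ a hy
  · intro hy
    have key : ∀ z ∈ Submodule.span k ((fun i : ℤ => t ^ i) '' {i | i ≤ 0}),
        (t ^ e)⁻¹ * z ∈ Submodule.span k ((fun i : ℤ => t ^ i) '' {i | i ≤ -(e : ℤ)}) := by
      intro z hz
      induction hz using Submodule.span_induction with
      | mem z hz =>
        obtain ⟨i, hi, rfl⟩ := hz
        refine Submodule.subset_span ⟨-(e : ℤ) + i, ?_, ?_⟩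
        · have : i ≤ 0 := hi
          change -(e : ℤ) + i ≤ -(e : ℤ)
          omega
        · simp only
          rw [zpow_add₀ ht, zpow_neg, zpow_natCast]
      | zero => rw [mul_zero]; exact zero_mem _
      | add y z _ _ hy hz => rw [mul_add]; exact add_mem hy hz
      | smul a y _ hy => rw [mul_smul_comm]; exact Submodule.smul_mem _ a hy
    have := key _ hy
    rwa [← mul_assoc, inv_mul_cancel₀ (pow_ne_zero _ ht), one_mul] at this

theorem card_compl' (e : Fin d → ℕ) :
    Nat.card (({p : ℤ × Fin d | p.1 ∈ ({i | 0 ≤ i} : Set ℤ)} ∪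
      {p : ℤ × Fin d | p.1 ∈ ({i | i ≤ -(e p.2 : ℤ)} : Set ℤ)})ᶜ : Set (ℤ × Fin d)) = ∑ j, (e j - 1) := by
  have E : (({p : ℤ × Fin d | p.1 ∈ ({i | 0 ≤ i} : Set ℤ)} ∪
      {p : ℤ × Fin d | p.1 ∈ ({i | i ≤ -(e p.2 : ℤ)} : Set ℤ)})ᶜ : Set (ℤ × Fin d)) ≃
      (Σ j : Fin d, (Finset.Ioo (-(e j : ℤ)) 0 : Finset ℤ)) :=
    { toFun := fun p => ⟨p.1.2, ⟨p.1.1, by
        have h := p.2
        simp only [Set.mem_compl_iff, Set.mem_union, Set.mem_ofPred_eq, not_or, not_le] at h
        rw [Finset.mem_Ioo]
        exact ⟨h.2, h.1⟩⟩⟩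
      invFun := fun q => ⟨(q.2.1, q.1), by
        have h := Finset.mem_Ioo.mp q.2.2
        simp only [Set.mem_compl_iff, Set.mem_union, Set.mem_ofPred_eq, not_or, not_le]
        exact ⟨h.2, h.1⟩⟩
      left_inv := fun p => rfl
      right_inv := fun q => rfl }
  rw [Nat.card_congr E, Nat.card_eq_fintype_card, Fintype.card_sigma]
  refine Finset.sum_congr rfl fun j _ => ?_
  rw [Fintype.card_coe, Int.card_Ioo]
  omega

end Alg

section Charts

variable {k F K : Type*} [Field k] [Field F] [Field K] [Algebra k F] [Algebra F K] [Algebra k K]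
  [IsScalarTower k F K] {d : ℕ}

/-- The integral basis data. -/
structure IsBasisData (k : Type*) {F K : Type*} [Field k] [Field F] [Field K] [Algebra k F] [Algebra F K]
    [Algebra k K] (t : F) {d : ℕ} (B : Fin d → K) (e : Fin d → ℕ) : Prop where
  ht : Transcendental k t
  hB : LinearIndependent F B
  hspan : ∀ x : K, ∃ c : Fin d → F, x = ∑ j, c j • B j
  h0 : ∀ c : Fin d → F, (Algebra.adjoin k {algebraMap F K t}).toSubring.subtype.IsIntegralElem (∑ j, c j • B j) ↔
    ∀ j, c j ∈ Algebra.adjoin k {t}
  h1 : ∀ c : Fin d → F,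
    (Algebra.adjoin k {(algebraMap F K t)⁻¹}).toSubring.subtype.IsIntegralElem (∑ j, c j • B j) ↔
    ∀ j, t ^ e j * c j ∈ Algebra.adjoin k {t⁻¹}

variable {t : F} {B : Fin d → K} {e : Fin d → ℕ} (H : IsBasisData k t B e)

include H

theorem IsBasisData.ne_zero : t ≠ 0 := by
  rintro rfl
  exact H.ht isAlgebraic_zero

theorem IsBasisData.unique {c c' : Fin d → F} (h : ∑ j, c j • B j = ∑ j, c' j • B j) : c = c' := by
  have h1 : ∑ j, (c j - c' j) • B j = 0 := by
    simp only [sub_smul, Finset.sum_sub_distrib, h, sub_self]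
  ext j
  exact sub_eq_zero.mp (Fintype.linearIndependent_iff.mp H.hB _ h1 j)

theorem IsBasisData.chart0 (x : K) :
    (Algebra.adjoin k {algebraMap F K t}).toSubring.subtype.IsIntegralElem x ↔
      x ∈ Submodule.span k (fam t B '' {p : ℤ × Fin d | p.1 ∈ ({i | 0 ≤ i} : Set ℤ)}) := by
  rw [mem_span_iff B (fun _ => {i | 0 ≤ i})]
  constructor
  · intro hx
    obtain ⟨c, rfl⟩ := H.hspan x
    refine ⟨c, fun j => ?_, rfl⟩
    rw [span_nonneg]
    exact (H.h0 c).mp hx j
  · rintro ⟨c, hc, rfl⟩
    rw [H.h0]
    intro j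
    have := hc j
    rwa [span_nonneg] at this

theorem IsBasisData.chart1 (x : K) :
    (Algebra.adjoin k {(algebraMap F K t)⁻¹}).toSubring.subtype.IsIntegralElem x ↔
      x ∈ Submodule.span k (fam t B '' {p : ℤ × Fin d | p.1 ∈ ({i | i ≤ -(e p.2 : ℤ)} : Set ℤ)}) := by
  rw [mem_span_iff B (fun j => {i | i ≤ -(e j : ℤ)})]
  constructor
  · intro hx
    obtain ⟨c, rfl⟩ := H.hspan x
    refine ⟨c, fun j => ?_, rfl⟩
    rw [mem_span_le_iff H.ne_zero]
    exact (H.h1 c).mp hx j
  · rintro ⟨c, hc, rfl⟩
    rw [H.h1]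
    intro j
    rw [← mem_span_le_iff H.ne_zero]
    exact hc j

theorem IsBasisData.chart01 (x : K) :
    (Algebra.adjoin k {algebraMap F K t, (algebraMap F K t)⁻¹}).toSubring.subtype.IsIntegralElem x ↔
      x ∈ Submodule.span k (Set.range (fam t B)) := by
  classical
  have ht0 := H.ne_zero
  have ht0' : algebraMap F K t ≠ 0 := (_root_.map_ne_zero _).mpr ht0
  constructor
  · intro hx
    obtain ⟨m, hm⟩ := exists_pow_mul ht0' hx
    rw [H.chart0] at hm
    have h1 : ∀ y ∈ Submodule.span k (Set.range (fam t B)),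
        (algebraMap F K t ^ m)⁻¹ * y ∈ Submodule.span k (Set.range (fam t B)) := by
      intro y hy
      induction hy using Submodule.span_induction with
      | mem y hy =>
        obtain ⟨⟨i, j⟩, rfl⟩ := hy
        refine Submodule.subset_span ⟨(i - m, j), ?_⟩
        simp only [fam, Algebra.smul_def]
        rw [zpow_sub₀ ht0, div_eq_inv_mul, map_mul, zpow_natCast, map_inv₀, map_pow, mul_assoc]
      | zero => simp
      | add y z _ _ hy hz => rw [mul_add]; exact add_mem hy hz
      | smul c y _ hy =>
        rw [mul_smul_comm]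
        exact Submodule.smul_mem _ _ hy
    have h2 := h1 _ (Submodule.span_mono (Set.image_subset_range _ _) hm)
    rwa [← mul_assoc, inv_mul_cancel₀ (pow_ne_zero _ ht0'), one_mul] at h2
  · have hle : (Algebra.adjoin k {algebraMap F K t}).toSubring.subtype.range ≤
        (Algebra.adjoin k {algebraMap F K t, (algebraMap F K t)⁻¹}).toSubring.subtype.range := by
      rw [Subring.range_subtype, Subring.range_subtype]
      exact Algebra.adjoin_mono (by simp)
    have hBi : ∀ j, (Algebra.adjoin k {algebraMap F K t, (algebraMap F K t)⁻¹}).toSubring.subtype.IsIntegralElem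
        (B j) := by
      intro j
      refine isIntegralElem_of_range_le _ _ hle ?_
      have h2 : B j = ∑ i, (Pi.single j (1 : F) : Fin d → F) i • B i := by
        rw [Finset.sum_eq_single j]
        · simp
        · intro i _ hi
          simp [Pi.single_eq_of_ne hi]
        · simp
      rw [h2, H.h0]
      intro i
      by_cases hi : i = j
      · subst hi
        rw [Pi.single_eq_same]
        exact one_mem _
      · rw [Pi.single_eq_of_ne hi]
        exact zero_mem _
    have hti : ∀ i : ℤ, algebraMap F K t ^ i ∈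
        Algebra.adjoin k {algebraMap F K t, (algebraMap F K t)⁻¹} := by
      intro i
      cases i with
      | ofNat m =>
        simp only [Int.ofNat_eq_natCast, zpow_natCast]
        exact pow_mem (Algebra.subset_adjoin (by simp)) m
      | negSucc m =>
        rw [zpow_negSucc, ← inv_pow]
        exact pow_mem (Algebra.subset_adjoin (by simp)) _
    have hint : ∀ y ∈ Algebra.adjoin k {algebraMap F K t, (algebraMap F K t)⁻¹},
        (Algebra.adjoin k {algebraMap F K t, (algebraMap F K t)⁻¹}).toSubring.subtype.IsIntegralElem y :=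
      fun y hy => ((Algebra.adjoin k {algebraMap F K t, (algebraMap F K t)⁻¹}).toSubring.subtype).isIntegralElem_map
        (x := ⟨y, hy⟩)
    intro hx
    induction hx using Submodule.span_induction with
    | mem y hy =>
      obtain ⟨⟨i, j⟩, rfl⟩ := hy
      simp only [fam, Algebra.smul_def, map_zpow₀]
      exact (hint _ (hti i)).mul _ (hBi j)
    | zero => exact RingHom.isIntegralElem_zero _
    | add y z _ _ hy hz => exact hy.add _ hz
    | smul c y _ hy =>
      rw [Algebra.smul_def]
      exact (hint _ (Subalgebra.algebraMap_mem _ c)).mul _ hy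

omit H in
theorem mem_adjoin_map {u : F} {y : K} (hy : y ∈ Algebra.adjoin k {algebraMap F K u}) :
    ∃ z ∈ Algebra.adjoin k {u}, algebraMap F K z = y := by
  have h1 : Algebra.adjoin k {algebraMap F K u} =
      (Algebra.adjoin k {u}).map (IsScalarTower.toAlgHom k F K) := by
    rw [AlgHom.map_adjoin, Set.image_singleton]
    rfl
  rw [h1] at hy
  obtain ⟨z, hz, rfl⟩ := hy
  exact ⟨z, hz, rfl⟩

omit H in
theorem map_mem_adjoin {u : F} {z : F} (hz : z ∈ Algebra.adjoin k {u}) :
    algebraMap F K z ∈ Algebra.adjoin k {algebraMap F K u} := by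
  have h1 : Algebra.adjoin k {algebraMap F K u} =
      (Algebra.adjoin k {u}).map (IsScalarTower.toAlgHom k F K) := by
    rw [AlgHom.map_adjoin, Set.image_singleton]
    rfl
  rw [h1]
  exact ⟨z, hz, rfl⟩

end Charts

/-- The range of `k[t]` in `K` is not a field. -/
theorem not_isField_adjoin {k K : Type*} [Field k] [Field K] [Algebra k K] {t : K} (ht : Transcendental k t) :
    ¬ IsField (Algebra.adjoin k {t}).toSubring := by
  intro h
  have ht0 : t ≠ 0 := by
    rintro rfl
    exact ht isAlgebraic_zero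
  have htm : t ∈ (Algebra.adjoin k {t}).toSubring := Algebra.subset_adjoin (by simp)
  obtain ⟨⟨s, hs⟩, hst⟩ := h.mul_inv_cancel (a := ⟨t, htm⟩) (fun h0 => ht0 (congrArg Subtype.val h0))
  have hst' : t * s = 1 := congrArg Subtype.val hst
  have hs' : s ∈ Algebra.adjoin k {t} := hs
  rw [Algebra.adjoin_singleton_eq_range_aeval] at hs'
  obtain ⟨p, rfl⟩ := hs'
  have h1 : X * p = 1 := (transcendental_iff_injective.mp ht) (by
    rw [map_mul, aeval_X, map_one]
    exact hst')
  exact not_isUnit_X (IsUnit.of_mul_eq_one _ h1)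

/-- **The cover attached to integral bases.** -/
theorem IsBasisData.exists_cover {k F K : Type u} [Field k] [IsAlgClosed k] [Field F] [Field K] [Algebra k F]
    [Algebra F K] [Algebra k K] [IsScalarTower k F K] [Algebra.EssFiniteType k K]
    (htr : Algebra.trdeg k K = 1) {t : F} {d : ℕ} {B : Fin d → K} {e : Fin d → ℕ}
    (H : IsBasisData k t B e) :
    ∃ (X : Scheme.{u}) (ν : X ⟶ CohB1.ProjSpace 1 k), Mor2.IsFinLocFreeOfDeg d ν ∧
      Curve.IsSmoothProperCurve k X (ν ≫ CohB1.ProjSpace.toSpec 1 k) ∧
      @Curv2.genus k _ X ⟨ν ≫ CohB1.ProjSpace.toSpec 1 k⟩ = ∑ j, (e j - 1) := by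
  have htK : Transcendental k (algebraMap F K t) :=
    (transcendental_algebraMap_iff (algebraMap F K).injective).mpr H.ht
  have htKi : Transcendental k (algebraMap F K t)⁻¹ := fun h => htK (by simpa using h.inv)
  have ht0 := H.ne_zero
  have ht0' : algebraMap F K t ≠ 0 := (_root_.map_ne_zero _).mpr ht0
  obtain ⟨f, hqc, hqs, U0, U1, hf0, hf1, ⟨hf, hU0, hU1, hcov, hr0, hr1⟩, hfin, hcurve, hgen⟩ :=
    NormGenus.exists_data k K htr (algebraMap F K t) htK (fam t B)
    (fam_linearIndependent H.ht H.hB) _ _ H.chart0 H.chart1 H.chart01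
  rw [card_compl'] at hgen
  refine ⟨f.normalization, f.fromNormalization, ?_, hcurve, hgen⟩
  haveI : AlgebraicGeometry.IsIntegral (CohB1.ProjSpace 1 k) := K711.ProjDim.isIntegral_projSpace 1 k
  have hdim : topologicalKrullDim (CohB1.ProjSpace 1 k) = 1 := by rw [K711.ProjDim.topologicalKrullDim_projSpace 1 k]; rfl
  have hinj0 : Function.Injective (toK f U0 hf0) :=
    CoverDegree.toK_injective f hdim hU0 hf0 (by rw [hr0]; exact not_isField_adjoin htK)
  have hinj1 : Function.Injective (toK f U1 hf1) :=
    CoverDegree.toK_injective f hdim hU1 hf1 (by rw [hr1]; exact not_isField_adjoin htKi)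
  have hz0 : ∀ c : Fin d → F, ∑ j, algebraMap F K (c j) * B j = ∑ j, c j • B j := fun c => by
    simp only [Algebra.smul_def]
  have hz1 : ∀ c : Fin d → F, ∑ j, algebraMap F K (c j) * (algebraMap F K (t ^ e j)⁻¹ * B j) =
      ∑ j, (c j * (t ^ e j)⁻¹) • B j := fun c => by
    simp only [Algebra.smul_def, map_mul, mul_assoc]
  have hb0 : ∃ v, Picfga.HilbChartAlg.RBas (d := d) (f.fromNormalization.app U0).hom v := by
    refine CoverDegree.exists_rBas f hU0 hf0 hinj0 B (fun x => ?_) (fun c hc hs => ?_)
    · rw [NormGenus.mem_range_iff f hf0 hU0 _ hr0, hr0]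
      constructor
      · intro hx
        obtain ⟨c, rfl⟩ := H.hspan x
        exact ⟨fun j => algebraMap F K (c j), fun j => map_mem_adjoin ((H.h0 c).mp hx j), (hz0 c).symm⟩
      · rintro ⟨c, hc, rfl⟩
        choose c' hc' hcc using fun j => mem_adjoin_map (k := k) (F := F) (hc j)
        obtain rfl : c = fun j => algebraMap F K (c' j) := by ext j; exact (hcc j).symm
        rw [hz0, H.h0]
        exact hc'
    · rw [hr0] at hc
      choose c' hc' hcc using fun j => mem_adjoin_map (k := k) (F := F) (hc j)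
      obtain rfl : c = fun j => algebraMap F K (c' j) := by ext j; exact (hcc j).symm
      rw [hz0] at hs
      have := H.unique (c := c') (c' := 0) (by rw [hs]; simp)
      ext j
      simp [this]
  have hb1 : ∃ v, Picfga.HilbChartAlg.RBas (d := d) (f.fromNormalization.app U1).hom v := by
    refine CoverDegree.exists_rBas f hU1 hf1 hinj1 (fun j => algebraMap F K (t ^ e j)⁻¹ * B j)
      (fun x => ?_) (fun c hc hs => ?_)
    · rw [NormGenus.mem_range_iff f hf1 hU1 _ hr1, hr1]
      constructor
      · intro hx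
        obtain ⟨c, rfl⟩ := H.hspan x
        refine ⟨fun j => algebraMap F K (t ^ e j * c j), fun j => ?_, ?_⟩
        · have := map_mem_adjoin (k := k) (K := K) ((H.h1 c).mp hx j)
          rwa [map_inv₀] at this
        · rw [hz1]
          refine Finset.sum_congr rfl fun j _ => ?_
          rw [mul_comm (t ^ e j), mul_inv_cancel_right₀ (pow_ne_zero _ ht0)]
      · rintro ⟨c, hc, rfl⟩
        have hc2 : ∀ j, c j ∈ Algebra.adjoin k {algebraMap F K t⁻¹} := fun j => by
          rw [map_inv₀]; exact hc j
        choose c' hc' hcc using fun j => mem_adjoin_map (k := k) (F := F) (hc2 j)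
        obtain rfl : c = fun j => algebraMap F K (c' j) := by ext j; exact (hcc j).symm
        rw [hz1, H.h1]
        intro j
        rw [mul_comm (c' j), mul_inv_cancel_left₀ (pow_ne_zero _ ht0)]
        exact hc' j
    · rw [hr1] at hc
      have hc2 : ∀ j, c j ∈ Algebra.adjoin k {algebraMap F K t⁻¹} := fun j => by
        rw [map_inv₀]; exact hc j
      choose c' hc' hcc using fun j => mem_adjoin_map (k := k) (F := F) (hc2 j)
      obtain rfl : c = fun j => algebraMap F K (c' j) := by ext j; exact (hcc j).symm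
      rw [hz1] at hs
      have h2 := H.unique (c := fun j => c' j * (t ^ e j)⁻¹) (c' := 0) (by rw [hs]; simp)
      ext j
      have h3 := congrFun h2 j
      have h4 : c' j = 0 := by
        rcases mul_eq_zero.mp h3 with h | h
        · exact h
        · exact absurd h (inv_ne_zero (pow_ne_zero _ ht0))
      simp [h4]
  refine CoverDegree.isFinLocFreeOfDeg_of_cover f.fromNormalization
    (fun i : ULift.{u} Bool => if i.down then U0 else U1) ?_ ?_ d ?_
  · rintro ⟨b⟩
    cases b
    · exact hU1
    · exact hU0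
  · intro y
    have : y ∈ U0 ⊔ U1 := by rw [hcov]; trivial
    rcases this with h | h
    · exact ⟨⟨true⟩, h⟩
    · exact ⟨⟨false⟩, h⟩
  · rintro ⟨b⟩
    cases b
    · exact hb1
    · exact hb0

end K310.BasisCover
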