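import Groth.Agent.CurvSt.K310.DoubleCoverExists
import Groth.Agent.Picfga.HilbAff
import Groth.Agent.Picfga.HilbZar
import Groth.Agent.IntTh.K711.ProjDim
import Groth.Agent.CurvesB.DimOneTop

/-!
# The degree of the double cover
-/

set_option autoImplicit false
set_option linter.style.haveILetI false
set_option linter.unusedSectionVars false

universe u

open CategoryTheory CategoryTheory.Limits AlgebraicGeometry Polynomial

namespace K310.CoverDegree

open Groth.Agent Groth.Agent.Ega2.NormChart

section Inj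

variable {k : Type u} [Field k] {K : Type u} [Field K] [Algebra k K] {P : Scheme.{u}}
  (f : Spec (CommRingCat.of K) ⟶ P)

theorem isClosed_of_ne {Y : Scheme.{u}} [IsIntegral Y] (hdim : topologicalKrullDim Y = 1) (y : Y)
    (hy : y ≠ genericPoint Y) : IsClosed ({y} : Set Y) := by
  obtain ⟨-, h2⟩ := CurvesB.DimOneTop.topologicalKrullDim_eq_one_iff.1 hdim
  have h3 : ∀ z, y ⤳ z → z = y := (h2 y).resolve_right fun h =>
    hy (h _ (genericPoint_specializes y)).symm
  apply isClosed_of_closure_subset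
  intro z hz
  exact h3 z (specializes_iff_mem_closure.mpr hz)

/-- The sections vanishing at the image of `Spec K` are the kernel of `toK`. -/
theorem toK_eq_zero_iff {U : P.Opens} (hfU : f ⁻¹ᵁ U = ⊤) (g : Γ(P, U)) :
    toK f U hfU g = 0 ↔ f.base (IsLocalRing.closedPoint K) ∉ P.basicOpen g := by
  have h1 : toK f U hfU g = 0 ↔ f.appLE U ⊤ (by rw [hfU]) g = 0 := by
    have h2 : toK f U hfU g = (Scheme.ΓSpecIso (CommRingCat.of K)).hom (f.appLE U ⊤ (by rw [hfU]) g) := rfl
    rw [h2]
    exact map_eq_zero_iff _ ((ConcreteCategory.bijective_of_isIso (Scheme.ΓSpecIso (CommRingCat.of K)).hom).1)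
  rw [h1, ← basicOpen_eq_bot_iff, Scheme.basicOpen_appLE]
  constructor
  · intro h hx
    have : IsLocalRing.closedPoint K ∈ (⊤ ⊓ f ⁻¹ᵁ P.basicOpen g : (Spec (CommRingCat.of K)).Opens) :=
      ⟨trivial, hx⟩
    rw [h] at this
    exact this
  · intro h
    ext x
    constructor
    · rintro ⟨-, hx⟩
      refine h ?_
      have : x = IsLocalRing.closedPoint K := Subsingleton.elim _ _
      rw [← this]
      exact hx
    · intro hx
      exact hx.elim

/-- On an integral one-dimensional scheme, the sections over an affine open inject into `K`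
when their image is not a field. -/
theorem toK_injective [IsIntegral P] (hdim : topologicalKrullDim P = 1) {U : P.Opens}
    (hU : IsAffineOpen U) (hfU : f ⁻¹ᵁ U = ⊤)
    (h : ¬ IsField (toK f U hfU).range) : Function.Injective (toK f U hfU) := by
  have hxU : f.base (IsLocalRing.closedPoint K) ∈ U := by
    have : IsLocalRing.closedPoint K ∈ f ⁻¹ᵁ U := by rw [hfU]; trivial
    exact this
  by_cases hx : f.base (IsLocalRing.closedPoint K) = genericPoint P
  · rw [injective_iff_map_eq_zero]
    intro g hg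
    rw [toK_eq_zero_iff, hx] at hg
    rw [← basicOpen_eq_bot_iff]
    by_contra hne
    refine hg ?_
    have : (P.basicOpen g : Set P).Nonempty := by
      rw [Set.nonempty_iff_ne_empty]
      intro h0
      exact hne (TopologicalSpace.Opens.ext h0)
    exact ((genericPoint_spec P).mem_open_set_iff (P.basicOpen g).isOpen).mpr (by simpa using this)
  · exfalso
    have hcl := isClosed_of_ne hdim _ hx
    have hmax := hU.primeIdealOf_isMaximal_of_isClosed ⟨_, hxU⟩ hcl
    have hker : RingHom.ker (toK f U hfU) = (hU.primeIdealOf ⟨_, hxU⟩).asIdeal := by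
      ext g
      rw [RingHom.mem_ker, toK_eq_zero_iff]
      have h1 := hU.fromSpec_primeIdealOf ⟨_, hxU⟩
      have h2 : f.base (IsLocalRing.closedPoint K) ∈ P.basicOpen g ↔
          hU.primeIdealOf ⟨_, hxU⟩ ∈ hU.fromSpec ⁻¹ᵁ P.basicOpen g := by
        change _ ↔ hU.fromSpec (hU.primeIdealOf ⟨_, hxU⟩) ∈ P.basicOpen g
        rw [h1]
      rw [h2, hU.fromSpec_preimage_basicOpen]
      exact not_not
    have hmax' : (RingHom.ker (toK f U hfU)).IsMaximal := by rw [hker]; exact hmax
    refine h ?_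
    have e := RingHom.quotientKerEquivRange (toK f U hfU)
    exact e.toMulEquiv.symm.isField ((Ideal.Quotient.maximal_ideal_iff_isField_quotient _).mp hmax')

end Inj

section Basis

open Picfga.HilbChartAlg

variable {k : Type u} [Field k] {K : Type u} [Field K] [Algebra k K] {P : Scheme.{u}}
  (f : Spec (CommRingCat.of K) ⟶ P) [QuasiCompact f] [QuasiSeparated f]

/-- A basis over a chart from a basis inside `K`. -/
theorem exists_rBas {U : P.Opens} (hU : IsAffineOpen U) (hfU : f ⁻¹ᵁ U = ⊤)
    (hinj : Function.Injective (toK f U hfU)) {d : ℕ} (u : Fin d → K)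
    (hu : ∀ x : K, x ∈ (normToK f U hfU).range ↔ ∃ c : Fin d → K, (∀ i, c i ∈ (toK f U hfU).range) ∧
      x = ∑ i, c i * u i)
    (hind : ∀ c : Fin d → K, (∀ i, c i ∈ (toK f U hfU).range) → ∑ i, c i * u i = 0 → c = 0) :
    ∃ v : Fin d → Γ(f.normalization, f.fromNormalization ⁻¹ᵁ U),
      RBas (f.fromNormalization.app U).hom v := by
  classical
  have hmem : ∀ i, u i ∈ (normToK f U hfU).range := by
    intro i
    rw [hu]
    refine ⟨Pi.single i 1, fun j => ?_, ?_⟩
    · by_cases hj : j = i
      · subst hj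
        rw [Pi.single_eq_same]
        exact one_mem _
      · rw [Pi.single_eq_of_ne hj]
        exact zero_mem _
    · rw [Finset.sum_eq_single i]
      · simp
      · intro j _ hj
        simp [Pi.single_eq_of_ne hj]
      · simp
  choose v hv using hmem
  have hcomp : ∀ b, normToK f U hfU ((f.fromNormalization.app U).hom b) = toK f U hfU b := fun b =>
    congrArg (fun φ => φ b) (normToK_comp f U hfU)
  have key : ∀ b : Fin d → Γ(P, U), normToK f U hfU (∑ i, (f.fromNormalization.app U).hom (b i) * v i) =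
      ∑ i, toK f U hfU (b i) * u i := by
    intro b
    rw [map_sum]
    refine Finset.sum_congr rfl fun i _ => ?_
    rw [map_mul, hcomp, hv]
  refine ⟨v, ?_, ?_⟩
  · intro b b' hbb
    have h1 := congrArg (normToK f U hfU) hbb
    simp only at h1
    rw [key, key, ← sub_eq_zero, ← Finset.sum_sub_distrib] at h1
    have h2 := hind (fun i => toK f U hfU (b i) - toK f U hfU (b' i))
      (fun i => sub_mem ⟨_, rfl⟩ ⟨_, rfl⟩) (by simpa only [sub_mul] using h1)
    ext i
    have h3 := congrFun h2 i
    exact hinj (sub_eq_zero.mp h3)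
  · intro z
    obtain ⟨c, hc, hz⟩ := (hu _).mp ⟨z, rfl⟩
    choose b hb using hc
    refine ⟨b, normToK_injective f U hfU hU ?_⟩
    simp only
    rw [key, hz]
    exact Finset.sum_congr rfl fun i _ => by rw [hb]

theorem rBas_aux {X Y : Scheme.{u}} (g : X ⟶ Y) (U V : Y.Opens) (W : X.Opens) (hV : V = U) (hW : W = g ⁻¹ᵁ V)
    {d : ℕ} (h : ∃ v : Fin d → Γ(X, g ⁻¹ᵁ U), RBas (g.app U).hom v) :
    ∃ v : Fin d → Γ(X, W), RBas (g.app V ≫ X.presheaf.map (eqToHom hW).op).hom v := by
  subst hV hW
  simpa using h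

/-- Finite locally free of degree `d` from bases over two affine charts. -/
theorem isFinLocFreeOfDeg_of_cover {X Y : Scheme.{u}} (g : X ⟶ Y) [IsAffineHom g] {ι : Type u}
    (U : ι → Y.Opens) (hU : ∀ i, IsAffineOpen (U i)) (hcov : ∀ y : Y, ∃ i, y ∈ U i) (d : ℕ)
    (h : ∀ i, ∃ v : Fin d → Γ(X, g ⁻¹ᵁ U i), RBas (g.app (U i)).hom v) :
    Mor2.IsFinLocFreeOfDeg d g := by
  refine Picfga.HilbZar.isFinLocFreeOfDeg_of_isPullback_family (fun i => (U i : Scheme.{u}))
    (fun i => (g ⁻¹ᵁ U i : Scheme.{u})) (fun i => (U i).ι) ?_ (fun i => g ∣_ U i)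
    (fun i => (g ⁻¹ᵁ U i).ι) (fun i => (isPullback_morphismRestrict g (U i)).flip) (fun i => ?_)
  · intro y
    obtain ⟨i, hi⟩ := hcov y
    exact ⟨i, ⟨y, hi⟩, rfl⟩
  · haveI : IsAffine (U i : Scheme.{u}) := hU i
    haveI : IsAffine (g ⁻¹ᵁ U i : Scheme.{u}) := (hU i).preimage g
    have := rBas_aux g (U i) ((U i).ι ''ᵁ ⊤) _ (by simp) (image_morphismRestrict_preimage g (U i) ⊤) (h i)
    rw [← morphismRestrict_appTop] at this
    obtain ⟨v, hv⟩ := this
    exact Picfga.HilbAff.isFinLocFreeOfDeg_of_rBas _ v hv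

end Basis

end K310.CoverDegree
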