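import Mathlib.RingTheory.Polynomial.UniqueFactorization
import Mathlib.RingTheory.IntegralClosure.IntegrallyClosed
import Mathlib.RingTheory.Localization.Integral
import Mathlib.FieldTheory.Separable
import Mathlib.FieldTheory.IsAlgClosed.Basic
import Mathlib.RingTheory.AdjoinRoot
import Mathlib.FieldTheory.RatFunc.AsPolynomial
import Mathlib.RingTheory.AlgebraicIndependent.TranscendenceBasis

/-!
# Quadratic extensions `w² + h w = f` of a rational function field: integral elements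

`Good O h f` : for the subring `O` of the field `F`, an element `a + b w` with trace and norm in `O` has
`a, b ∈ O`.  Three cases: `f` squarefree and `h = 0` (`2` invertible); `h = 1` and characteristic two;
`O = k[s]`, `h = s ^ n`, `f = s` and characteristic two.
-/

set_option autoImplicit false

open Polynomial

namespace K310.DoubleCoverAlg

section Good

variable {R F : Type*} [CommRing R] [Field F] (ρ : R →+* F)

/-- An element `a + b w` of `F(w)`, `w² + h w = f`, with trace and norm in the image of `R` has `a`, `b` in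
the image of `R`. -/
def Good (h f : F) : Prop :=
  ∀ a b : F, 2 * a - h * b ∈ ρ.range → a ^ 2 - a * b * h - b ^ 2 * f ∈ ρ.range →
    a ∈ ρ.range ∧ b ∈ ρ.range

/-- `R → F` is integrally closed: elements integral over `R` come from `R`. -/
def IntClosed : Prop := ∀ y : F, ρ.IsIntegralElem y → y ∈ ρ.range

variable {ρ}

theorem mem_of_sq (hρ : IntClosed ρ) {y : F} {u v : F} (hu : u ∈ ρ.range) (hv : v ∈ ρ.range)
    (h : y ^ 2 + u * y = v) : y ∈ ρ.range := by
  obtain ⟨u, rfl⟩ := hu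
  obtain ⟨v, rfl⟩ := hv
  refine hρ y ⟨X ^ 2 + C u * X - C v, ?_, ?_⟩
  · monicity!
  · simp [h]

theorem good_one [CharP F 2] (hρ : IntClosed ρ) (f : F) (hf : f ∈ ρ.range) : Good ρ 1 f := by
  intro a b h1 h2
  have h20 : (2 : F) = 0 := by exact_mod_cast CharP.cast_eq_zero F 2
  have hb : b ∈ ρ.range := by
    have : 2 * a - 1 * b = -b := by rw [h20]; ring
    rw [this] at h1
    simpa using ρ.range.neg_mem h1
  refine ⟨?_, hb⟩
  refine mem_of_sq hρ (ρ.range.neg_mem hb)
    (ρ.range.add_mem h2 (ρ.range.mul_mem (ρ.range.pow_mem hb 2) hf)) ?_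
  ring

theorem good_sq [IsDomain R] [DecompositionMonoid R] (hinj : Function.Injective ρ) (hρ : IntClosed ρ)
    (c : R) (hc : ρ c * 2 = 1) (f : R) (hf : Squarefree f) (hf0 : f ≠ 0) : Good ρ 0 (ρ f) := by
  intro a b h1 h2
  have ha : a ∈ ρ.range := by
    have : a = ρ c * (2 * a - 0 * b) := by
      rw [zero_mul, sub_zero, ← mul_assoc, hc, one_mul]
    rw [this]
    exact ρ.range.mul_mem ⟨c, rfl⟩ h1
  refine ⟨ha, ?_⟩
  obtain ⟨r, hr⟩ : b ^ 2 * ρ f ∈ ρ.range := by
    have : b ^ 2 * ρ f = a ^ 2 - (a ^ 2 - a * b * 0 - b ^ 2 * ρ f) := by ring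
    rw [this]
    exact ρ.range.sub_mem (ρ.range.pow_mem ha 2) h2
  have h3 : b * ρ f ∈ ρ.range := by
    refine mem_of_sq hρ ρ.range.zero_mem (v := ρ (r * f)) ⟨_, rfl⟩ ?_
    rw [map_mul, hr]; ring
  obtain ⟨e, he⟩ := h3
  have h4 : e ^ 2 = r * f := hinj (by rw [map_pow, he, map_mul, hr]; ring)
  have h5 : f ∣ e := hf.isRadical 2 e ⟨r, by rw [h4, mul_comm]⟩
  obtain ⟨g, rfl⟩ := h5
  have h6 : ρ f ≠ 0 := (map_ne_zero_iff ρ hinj).mpr hf0
  refine ⟨g, ?_⟩
  rw [map_mul] at he
  have : ρ f * ρ g = ρ f * b := by rw [he, mul_comm]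
  exact mul_left_cancel₀ h6 this

end Good

section Pow

variable {k F : Type*} [Field k] [Field F] {ρ : k[X] →+* F}

theorem descend (hinj : Function.Injective ρ) (n : ℕ) (hn : 1 ≤ n) (a b : F) (N : k[X])
    (hN : a ^ 2 - a * b * (ρ X) ^ n - b ^ 2 * ρ X = ρ N) :
    ∀ (m : ℕ) (α β : k[X]), ρ X ^ m * a = ρ α → ρ X ^ m * b = ρ β → a ∈ ρ.range ∧ b ∈ ρ.range := by
  have hX : ρ X ≠ 0 := (map_ne_zero_iff ρ hinj).mpr X_ne_zero
  intro m
  induction m with
  | zero =>
    intro α β hα hβ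
    exact ⟨⟨α, by rw [← hα]; ring⟩, ⟨β, by rw [← hβ]; ring⟩⟩
  | succ m ih =>
    intro α β hα hβ
    have h1 : α ^ 2 - X ^ n * α * β - β ^ 2 * X = X ^ (2 * (m + 1)) * N := by
      apply hinj
      simp only [map_sub, map_mul, map_pow, ← hα, ← hβ, ← hN]
      ring
    obtain ⟨n', rfl⟩ : ∃ n', n = n' + 1 := ⟨n - 1, by omega⟩
    have hpX : Prime (X : k[X]) := prime_X
    have h2 : X ∣ α := by
      refine hpX.dvd_of_dvd_pow (n := 2) ⟨X ^ n' * α * β + β ^ 2 + X ^ (2 * m + 1) * N, ?_⟩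
      linear_combination h1
    obtain ⟨α', rfl⟩ := h2
    have h3 : X ∣ β := by
      refine hpX.dvd_of_dvd_pow (n := 2) ⟨α' ^ 2 - X ^ n' * α' * β - X ^ (2 * m) * N, ?_⟩
      have h4 : X * (X * α' ^ 2 - X ^ (n' + 1) * α' * β - β ^ 2 - X ^ (2 * m + 1) * N) = 0 := by
        linear_combination h1
      rcases mul_eq_zero.mp h4 with h5 | h5
      · exact absurd h5 X_ne_zero
      · linear_combination -h5
    obtain ⟨β', rfl⟩ := h3
    refine ih α' β' ?_ ?_
    · rw [map_mul] at hα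
      refine mul_left_cancel₀ hX ?_
      rw [← hα]; ring
    · rw [map_mul] at hβ
      refine mul_left_cancel₀ hX ?_
      rw [← hβ]; ring

theorem good_pow [CharP F 2] (hinj : Function.Injective ρ) (hρ : IntClosed ρ) (n : ℕ) (hn : 1 ≤ n) :
    Good ρ (ρ X ^ n) (ρ X) := by
  intro a b h1 h2
  have hX : ρ X ≠ 0 := (map_ne_zero_iff ρ hinj).mpr X_ne_zero
  have h20 : (2 : F) = 0 := by exact_mod_cast CharP.cast_eq_zero F 2
  have hb : ρ X ^ n * b ∈ ρ.range := by
    have : 2 * a - ρ X ^ n * b = - (ρ X ^ n * b) := by rw [h20]; ring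
    rw [this] at h1
    simpa using ρ.range.neg_mem h1
  obtain ⟨β, hβ⟩ := hb
  have hXr : ρ X ^ n ∈ ρ.range := ⟨X ^ n, by simp⟩
  have ha : ρ X ^ n * a ∈ ρ.range := by
    refine mem_of_sq hρ (u := - (ρ X ^ n * (ρ X ^ n * b)))
      (v := (ρ X ^ n) ^ 2 * (a ^ 2 - a * b * ρ X ^ n - b ^ 2 * ρ X) + (ρ X ^ n * b) ^ 2 * ρ X)
      ?_ ?_ ?_
    · rw [← hβ]
      exact ρ.range.neg_mem (ρ.range.mul_mem hXr ⟨_, rfl⟩)
    · rw [← hβ]
      exact ρ.range.add_mem (ρ.range.mul_mem (ρ.range.pow_mem hXr 2) h2)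
        (ρ.range.mul_mem (ρ.range.pow_mem ⟨_, rfl⟩ 2) ⟨_, rfl⟩)
    · ring
  obtain ⟨α, hα⟩ := ha
  obtain ⟨N, hN⟩ := h2
  exact descend hinj n hn a b N hN.symm n α β hα.symm hβ.symm

end Pow

section Integral

variable {R F K : Type*} [CommRing R] [Field F] [Field K] [Algebra F K] {ρ : R →+* F}

theorem IntClosed.mem (hρ : IntClosed ρ) {y : F}
    (hy : ((algebraMap F K).comp ρ).IsIntegralElem (algebraMap F K y)) : y ∈ ρ.range := by
  refine hρ y ?_
  obtain ⟨p, hp, h⟩ := hy
  refine ⟨p, hp, (algebraMap F K).injective ?_⟩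
  rw [map_zero, ← h, Polynomial.hom_eval₂]

/-- Integral elements of `F(w)`, `w² + h w = f`, are `a + b w` with `a`, `b` in the ring. -/
theorem exists_of_isIntegralElem (hρ : IntClosed ρ) {h f : F} (hg : Good ρ h f) (w : K)
    (hw : w ^ 2 + algebraMap F K h * w = algebraMap F K f)
    (φ : K →ₐ[F] K) (hφ : φ w = - algebraMap F K h - w) (a b : F)
    (hx : ((algebraMap F K).comp ρ).IsIntegralElem (algebraMap F K a + algebraMap F K b * w)) :
    a ∈ ρ.range ∧ b ∈ ρ.range := by
  have hx' : ((algebraMap F K).comp ρ).IsIntegralElem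
      (φ (algebraMap F K a + algebraMap F K b * w)) := by
    have h1 : (φ : K →+* K).comp ((algebraMap F K).comp ρ) = (algebraMap F K).comp ρ := by
      ext r; simp
    obtain ⟨p, hp, h2⟩ := hx
    refine ⟨p, hp, ?_⟩
    have h3 := Polynomial.hom_eval₂ p ((algebraMap F K).comp ρ) (φ : K →+* K)
      (algebraMap F K a + algebraMap F K b * w)
    rw [h1, h2, map_zero] at h3
    exact h3.symm
  have hφx : φ (algebraMap F K a + algebraMap F K b * w) =
      algebraMap F K a + algebraMap F K b * (- algebraMap F K h - w) := by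
    simp [hφ]
  rw [hφx] at hx'
  refine hg a b (hρ.mem (K := K) ?_) (hρ.mem (K := K) ?_)
  · have e : algebraMap F K (2 * a - h * b) = (algebraMap F K a + algebraMap F K b * w) +
        (algebraMap F K a + algebraMap F K b * (- algebraMap F K h - w)) := by
      simp only [map_sub, map_mul, map_ofNat]
      ring
    rw [e]
    exact hx.add _ hx'
  · have e : algebraMap F K (a ^ 2 - a * b * h - b ^ 2 * f) = (algebraMap F K a + algebraMap F K b * w) *
        (algebraMap F K a + algebraMap F K b * (- algebraMap F K h - w)) := by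
      simp only [map_sub, map_mul, map_pow]
      linear_combination (algebraMap F K b) ^ 2 * hw
    rw [e]
    exact hx.mul _ hx'

end Integral

end K310.DoubleCoverAlg
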