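import Groth.Agent.CurvSt.K310.NormGenus

/-!
# Quadratic extensions of a rational function field: the data entering `NormGenus.exists_curve`
-/

set_option autoImplicit false
set_option linter.unusedSectionVars false

universe u

open Polynomial

namespace K310.DoubleCoverData

open DoubleCoverAlg DoubleCoverSpan

section

variable {k F K : Type*} [Field k] [Field F] [Field K] [Algebra k F] [Algebra F K] [Algebra k K]
  [IsScalarTower k F K]

/-- The indices of the first chart. -/
def S0 : Set (ℤ × Fin 2) := {p | 0 ≤ p.1}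

/-- The indices of the second chart. -/
def S1 (n : ℕ) : Set (ℤ × Fin 2) := {p | (p.2 = 0 ∧ p.1 ≤ 0) ∨ (p.2 = 1 ∧ p.1 ≤ -(n : ℤ))}

theorem card_compl (n : ℕ) : Nat.card ((S0 ∪ S1 n)ᶜ : Set (ℤ × Fin 2)) = n - 1 := by
  have h1 : ((S0 ∪ S1 n)ᶜ : Set (ℤ × Fin 2)) = (fun i : ℤ => (i, (1 : Fin 2))) '' (Finset.Ioo (-(n : ℤ)) 0 : Finset ℤ) := by
    ext ⟨i, j⟩
    simp only [S0, S1, Set.mem_compl_iff, Set.mem_union, Set.mem_ofPred_eq, Set.mem_image, Finset.coe_Ioo,
      Set.mem_Ioo, Prod.mk.injEq]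
    constructor
    · intro h
      push Not at h
      obtain ⟨h2, h3, h4⟩ := h
      have hj : j = 1 := by
        rcases Fin.exists_fin_two.mp ⟨j, rfl⟩ with h | h
        · exact absurd (h3 h) (by omega)
        · exact h
      exact ⟨i, ⟨h4 hj, h2⟩, rfl, hj.symm⟩
    · rintro ⟨i, ⟨h2, h3⟩, rfl, rfl⟩
      push Not
      refine ⟨h3, fun h => absurd h (by decide), fun _ => h2⟩
  rw [h1, Nat.card_image_of_injective (fun a b h => (Prod.mk.inj h).1)]
  simp only [Finset.coe_sort_coe, Nat.card_eq_fintype_card, Fintype.card_coe, Int.card_Ioo]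
  omega

omit [Algebra k K] [IsScalarTower k F K] [Field k] [Algebra k F] in
theorem image_S0 (t : F) (w : K) :
    bas t w '' S0 = Set.range fun p : ℕ × Fin 2 => (t ^ p.1 : F) • (![1, w] p.2 : K) := by
  ext x
  constructor
  · rintro ⟨⟨i, j⟩, hi, rfl⟩
    obtain ⟨m, rfl⟩ := Int.eq_ofNat_of_zero_le (show (0 : ℤ) ≤ i from hi)
    exact ⟨(m, j), by simp [bas]⟩
  · rintro ⟨⟨m, j⟩, rfl⟩
    exact ⟨((m : ℤ), j), by simp [S0], by simp [bas]⟩

omit [Algebra k K] [IsScalarTower k F K] [Field k] [Algebra k F] in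
theorem image_S1 (t : F) (w : K) (n : ℕ) :
    bas t w '' (S1 n) = Set.range fun p : ℕ × Fin 2 =>
      (t⁻¹ ^ p.1 : F) • (![1, algebraMap F K (t⁻¹ ^ n) * w] p.2 : K) := by
  ext x
  constructor
  · rintro ⟨⟨i, j⟩, hi, rfl⟩
    rcases hi with ⟨hj, hi⟩ | ⟨hj, hi⟩
    · simp only at hj hi
      subst hj
      obtain ⟨m, hm⟩ := Int.eq_ofNat_of_zero_le (show (0 : ℤ) ≤ -i by omega)
      obtain rfl : i = -(m : ℤ) := by omega
      refine ⟨(m, 0), ?_⟩
      simp [bas]
    · simp only at hj hi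
      subst hj
      obtain ⟨m, hm⟩ := Int.eq_ofNat_of_zero_le (show (0 : ℤ) ≤ -i - n by omega)
      obtain rfl : i = -((m + n : ℕ) : ℤ) := by push_cast; omega
      refine ⟨(m, 1), ?_⟩
      simp only [bas, Matrix.cons_val_one, Algebra.smul_def, zpow_neg, zpow_natCast, Matrix.cons_val_fin_one]
      rw [← mul_assoc, ← map_mul, ← pow_add, inv_pow]
  · rintro ⟨⟨m, j⟩, rfl⟩
    rcases Fin.exists_fin_two.mp ⟨j, rfl⟩ with rfl | rfl
    · refine ⟨(-(m : ℤ), 0), Or.inl ⟨rfl, by simp⟩, by simp [bas]⟩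
    · refine ⟨(-((m + n : ℕ) : ℤ), 1), Or.inr ⟨rfl, by push_cast; omega⟩, ?_⟩
      simp only [bas, Matrix.cons_val_one, Algebra.smul_def, zpow_neg, zpow_natCast, Matrix.cons_val_fin_one]
      rw [← mul_assoc, ← map_mul, ← pow_add, inv_pow]

theorem range_aeval (x : K) :
    (aeval x : k[X] →ₐ[k] K).toRingHom.range = (Algebra.adjoin k {x}).toSubring := by
  ext y
  rw [Subalgebra.mem_toSubring, Algebra.adjoin_singleton_eq_range_aeval]
  rfl

theorem isIntegralElem_iff (u x : K) :
    (Algebra.adjoin k {u}).toSubring.subtype.IsIntegralElem x ↔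
      (aeval u : k[X] →ₐ[k] K).toRingHom.IsIntegralElem x := by
  refine NormGenus.isIntegralElem_iff_of_range _ _ ?_ x
  rw [Subring.range_subtype, range_aeval]

/-- The hypotheses on a quadratic extension `K = F(w)`, `w² + h w = f`. -/
structure IsData (k : Type*) {F K : Type*} [Field k] [Field F] [Field K] [Algebra k F] [Algebra F K]
    (t : F) (w : K) (n : ℕ) (h f : F) : Prop where
  ht : Transcendental k t
  hw : w ^ 2 + algebraMap F K h * w = algebraMap F K f
  hlin : LinearIndependent F ![1, w]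
  hspan : ∀ x : K, ∃ a b : F, x = algebraMap F K a + algebraMap F K b * w
  hφ : ∃ φ : K →ₐ[F] K, φ w = - algebraMap F K h - w
  int0 : IntClosed (aeval t : k[X] →ₐ[k] F).toRingHom
  good0 : Good (aeval t : k[X] →ₐ[k] F).toRingHom h f
  h0 : h ∈ (aeval t : k[X] →ₐ[k] F).range
  f0 : f ∈ (aeval t : k[X] →ₐ[k] F).range
  int1 : IntClosed (aeval t⁻¹ : k[X] →ₐ[k] F).toRingHom
  good1 : Good (aeval t⁻¹ : k[X] →ₐ[k] F).toRingHom (t⁻¹ ^ n * h) (t⁻¹ ^ (2 * n) * f)
  h1 : t⁻¹ ^ n * h ∈ (aeval t⁻¹ : k[X] →ₐ[k] F).range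
  f1 : t⁻¹ ^ (2 * n) * f ∈ (aeval t⁻¹ : k[X] →ₐ[k] F).range

variable {t : F} {w : K} {n : ℕ} {h f : F} (H : IsData k t w n h f)

include H

theorem IsData.ne_zero : t ≠ 0 := by
  rintro rfl
  exact H.ht isAlgebraic_zero

theorem IsData.chart0 (x : K) :
    (Algebra.adjoin k {algebraMap F K t}).toSubring.subtype.IsIntegralElem x ↔
      x ∈ Submodule.span k (bas t w '' S0) := by
  obtain ⟨φ, hφ⟩ := H.hφ
  rw [isIntegralElem_iff, image_S0]
  exact isIntegralElem_iff_mem_D k H.int0 H.good0 H.h0 H.f0 H.hw φ hφ H.hspan x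

theorem IsData.chart1 (x : K) :
    (Algebra.adjoin k {(algebraMap F K t)⁻¹}).toSubring.subtype.IsIntegralElem x ↔
      x ∈ Submodule.span k (bas t w '' (S1 n)) := by
  obtain ⟨φ, hφ⟩ := H.hφ
  have ht0 := H.ne_zero
  have htn : (t⁻¹ ^ n : F) ≠ 0 := pow_ne_zero _ (inv_ne_zero ht0)
  rw [isIntegralElem_iff, image_S1 t, ← map_inv₀]
  refine isIntegralElem_iff_mem_D k H.int1 H.good1 H.h1 H.f1 (φ := φ) ?_ ?_ ?_ x
  · have := congrArg (fun y => algebraMap F K (t⁻¹ ^ (2 * n)) * y) H.hw
    rw [map_mul (algebraMap F K) (t⁻¹ ^ (2 * n)) f, ← this, map_mul, two_mul, pow_add, map_mul]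
    ring
  · rw [map_mul, AlgHom.commutes, hφ, map_mul]
    ring
  · intro x
    obtain ⟨a, b, rfl⟩ := H.hspan x
    refine ⟨a, b * (t⁻¹ ^ n)⁻¹, ?_⟩
    rw [map_mul (algebraMap F K) b, mul_assoc, ← mul_assoc (algebraMap F K (t⁻¹ ^ n)⁻¹), ← map_mul,
      inv_mul_cancel₀ htn, map_one, one_mul]

theorem IsData.chart01 (x : K) :
    (Algebra.adjoin k {algebraMap F K t, (algebraMap F K t)⁻¹}).toSubring.subtype.IsIntegralElem x ↔
      x ∈ Submodule.span k (Set.range (bas t w)) := by
  have ht0 := H.ne_zero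
  have ht0' : algebraMap F K t ≠ 0 := (_root_.map_ne_zero _).mpr ht0
  constructor
  · intro hx
    obtain ⟨m, hm⟩ := exists_pow_mul ht0' hx
    rw [H.chart0] at hm
    have h1 : ∀ y ∈ Submodule.span k (Set.range (bas t w)),
        (algebraMap F K t ^ m)⁻¹ * y ∈ Submodule.span k (Set.range (bas t w)) := by
      intro y hy
      induction hy using Submodule.span_induction with
      | mem y hy =>
        obtain ⟨⟨i, j⟩, rfl⟩ := hy
        refine Submodule.subset_span ⟨(i - m, j), ?_⟩
        simp only [bas, Algebra.smul_def]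
        rw [zpow_sub₀ ht0, div_eq_inv_mul, map_mul, zpow_natCast, map_inv₀, map_pow, mul_assoc]
      | zero => simp
      | add y z _ _ hy hz => rw [mul_add]; exact add_mem hy hz
      | smul c y _ hy =>
        rw [mul_smul_comm]
        exact Submodule.smul_mem _ _ hy
    have h2 := h1 _ (Submodule.span_mono (Set.image_subset_range _ _) hm)
    rwa [← mul_assoc, inv_mul_cancel₀ (pow_ne_zero _ ht0'), one_mul] at h2
  · have hle : (Algebra.adjoin k {algebraMap F K t}).toSubring.subtype.range ≤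
        (Algebra.adjoin k {algebraMap F K t, (algebraMap F K t)⁻¹}).toSubring.subtype.range := by
      rw [Subring.range_subtype, Subring.range_subtype]
      exact Algebra.adjoin_mono (by simp)
    have hwi : (Algebra.adjoin k {algebraMap F K t, (algebraMap F K t)⁻¹}).toSubring.subtype.IsIntegralElem
        w := by
      refine Groth.Agent.Ega2.NormChart.isIntegralElem_of_range_le _ _ hle ?_
      rw [H.chart0]
      exact Submodule.subset_span ⟨(0, 1), by simp [S0], by simp [bas]⟩
    have hti : ∀ i : ℤ, algebraMap F K t ^ i ∈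
        Algebra.adjoin k {algebraMap F K t, (algebraMap F K t)⁻¹} := by
      intro i
      cases i with
      | ofNat m =>
        simp only [Int.ofNat_eq_natCast, zpow_natCast]
        exact pow_mem (Algebra.subset_adjoin (by simp)) m
      | negSucc m =>
        rw [zpow_negSucc, ← inv_pow]
        exact pow_mem (Algebra.subset_adjoin (by simp)) _
    have hint : ∀ y ∈ Algebra.adjoin k {algebraMap F K t, (algebraMap F K t)⁻¹},
        (Algebra.adjoin k {algebraMap F K t, (algebraMap F K t)⁻¹}).toSubring.subtype.IsIntegralElem y :=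
      fun y hy => ((Algebra.adjoin k {algebraMap F K t, (algebraMap F K t)⁻¹}).toSubring.subtype).isIntegralElem_map
        (x := ⟨y, hy⟩)
    intro hx
    induction hx using Submodule.span_induction with
    | mem y hy =>
      obtain ⟨⟨i, j⟩, rfl⟩ := hy
      rcases Fin.exists_fin_two.mp ⟨j, rfl⟩ with rfl | rfl
      · rw [bas_zero]
        exact hint _ (hti i)
      · rw [bas_one]
        exact (hint _ (hti i)).mul _ hwi
    | zero => exact RingHom.isIntegralElem_zero _
    | add y z _ _ hy hz => exact hy.add _ hz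
    | smul c y _ hy =>
      rw [Algebra.smul_def]
      exact (hint _ (Subalgebra.algebraMap_mem _ c)).mul _ hy

end

open CategoryTheory CategoryTheory.Limits AlgebraicGeometry

/-- The curve of a quadratic extension. -/
theorem IsData.exists_curve {k F K : Type u} [Field k] [IsAlgClosed k] [Field F] [Field K] [Algebra k F]
    [Algebra F K] [Algebra k K] [IsScalarTower k F K] [Algebra.EssFiniteType k K]
    (htr : Algebra.trdeg k K = 1) {t : F} {w : K} {n : ℕ} {h f : F} (H : IsData k t w n h f) :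
    ∃ (X : Scheme.{u}) (ν : X ⟶ CohB1.ProjSpace 1 k), IsFinite ν ∧
      Curve.IsSmoothProperCurve k X (ν ≫ CohB1.ProjSpace.toSpec 1 k) ∧
      @Curv2.genus k _ X ⟨ν ≫ CohB1.ProjSpace.toSpec 1 k⟩ = n - 1 := by
  have htK : Transcendental k (algebraMap F K t) :=
    (transcendental_algebraMap_iff (algebraMap F K).injective).mpr H.ht
  have := NormGenus.exists_curve k K htr (algebraMap F K t) htK (bas t w)
    (bas_linearIndependent k H.ht H.hlin) S0 (S1 n) H.chart0 H.chart1 H.chart01
  rw [card_compl] at this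
  exact this

end K310.DoubleCoverData
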