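import Groth.Agent.CurvSt.K310.DoubleCoverAlg
import Mathlib.RingTheory.AlgebraTower
import Mathlib.LinearAlgebra.Dimension.Finrank
import Mathlib.LinearAlgebra.FreeModule.Finite.Matrix
import Mathlib.LinearAlgebra.Finsupp.Supported
import Mathlib.Data.Int.Interval

/-!
# Quadratic extensions of a rational function field: the two charts and their quotient

For `t ∈ F` transcendental over `k` and `w ∈ K = F ⊕ F w`: the elements `t ^ i`, `t ^ i w` (`i ∈ ℤ`) are
linearly independent over `k`; the integral elements over `k[t]`, `k[t⁻¹]`, `k[t, t⁻¹]` are the spans of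
subfamilies, and the Čech quotient has dimension `n - 1`.
-/

set_option autoImplicit false

open Polynomial

namespace K310.DoubleCoverSpan

open DoubleCoverAlg

/-- The quotient of the span of a linearly independent family by the span of a subfamily. -/
theorem finrank_quot {k Γ V : Type*} [Field k] [AddCommGroup Γ] [Module k Γ] [AddCommGroup V] [Module k V]
    {ι : Type*} (b : ι → V) (hb : LinearIndependent k b) (S : Set ι) (j : Γ →ₗ[k] V) (hr : LinearMap.range j = Submodule.span k (Set.range b))
    (N : Submodule k Γ) (hN : ∀ z, z ∈ N ↔ j z ∈ Submodule.span k (b '' S)) :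
    Module.finrank k (Γ ⧸ N) = Nat.card (Sᶜ : Set ι) := by
  classical
  let B := Module.Basis.span hb
  let j' : Γ →ₗ[k] Submodule.span k (Set.range b) := j.codRestrict _ (fun c => hr ▸ ⟨c, rfl⟩)
  let π : Γ →ₗ[k] ((Sᶜ : Set ι) →₀ k) := Finsupp.lsubtypeDomain Sᶜ ∘ₗ B.repr.toLinearMap ∘ₗ j'
  have hj' : Function.Surjective j' := by
    rintro ⟨y, hy⟩
    rw [← hr] at hy
    obtain ⟨x, rfl⟩ := hy
    exact ⟨x, rfl⟩
  have hπ : Function.Surjective π := by
    have h1 : Function.Surjective (Finsupp.lsubtypeDomain (R := k) (M := k) (Sᶜ : Set ι)) := by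
      intro v
      refine ⟨v.embDomain (Function.Embedding.subtype _), ?_⟩
      ext i
      simp only [Finsupp.lsubtypeDomain_apply, Finsupp.subtypeDomain_apply]
      exact Finsupp.embDomain_apply_self (Function.Embedding.subtype _) v i
    exact h1.comp (B.repr.surjective.comp hj')
  have hker : LinearMap.ker π = N := by
    ext z
    rw [LinearMap.mem_ker, hN]
    have h1 : (j z : V) = Finsupp.linearCombination k b (B.repr (j' z)) := by
      have h2 := B.linearCombination_repr (j' z)
      have h3 := congrArg Subtype.val h2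
      rw [Finsupp.linearCombination_apply, Finsupp.sum] at h3
      rw [Finsupp.linearCombination_apply, Finsupp.sum]
      change _ = j z at h3
      rw [← h3, Submodule.coe_sum]
      refine Finset.sum_congr rfl fun i _ => ?_
      simp [B, Module.Basis.span_apply]
    have h4 : π z = 0 ↔ B.repr (j' z) ∈ Finsupp.supported k k S := by
      rw [Finsupp.mem_supported']
      constructor
      · intro h i hi
        have := DFunLike.congr_fun h ⟨i, hi⟩
        exact this
      · intro h
        ext i
        exact h i i.2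
    rw [h4, h1, Finsupp.mem_span_image_iff_linearCombination]
    constructor
    · intro h
      exact ⟨_, h, rfl⟩
    · rintro ⟨l, hl, h5⟩
      have := hb h5
      rwa [← this]
  rw [← hker]
  have e := LinearMap.quotKerEquivOfSurjective π hπ
  rw [e.finrank_eq]
  exact Module.finrank_eq_nat_card_basis (Finsupp.basisSingleOne)

section

variable {k F : Type*} [Field k] [Field F] [Algebra k F]

theorem zpow_linearIndependent {t : F} (ht : Transcendental k t) :
    LinearIndependent k (fun i : ℤ => t ^ i) := by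
  have ht0 : t ≠ 0 := by
    rintro rfl
    exact ht isAlgebraic_zero
  rw [linearIndependent_iff']
  intro s l hl i hi
  obtain ⟨N, hN⟩ : ∃ N : ℕ, ∀ i ∈ s, 0 ≤ i + N := by
    refine ⟨s.sum (fun i => i.natAbs), fun i hi => ?_⟩
    have h1 : i.natAbs ≤ s.sum (fun i => i.natAbs) :=
      Finset.single_le_sum (f := fun i : ℤ => i.natAbs) (fun _ _ => Nat.zero_le _) hi
    omega
  let p : k[X] := s.sum fun i => C (l i) * X ^ (i + N).toNat
  have hp : aeval t p = 0 := by
    simp only [p, map_sum, map_mul, aeval_C, map_pow, aeval_X]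
    have h1 : ∀ i ∈ s, algebraMap k F (l i) * t ^ (i + N).toNat = t ^ N * (l i • t ^ i) := by
      intro i hi
      rw [← zpow_natCast t (i + N).toNat, Int.toNat_of_nonneg (hN i hi), zpow_add₀ ht0, zpow_natCast,
        Algebra.smul_def]
      ring
    rw [Finset.sum_congr rfl h1, ← Finset.mul_sum, hl, mul_zero]
  have hp0 : p = 0 := by
    by_contra hne
    exact ht ⟨p, hne, hp⟩
  have h2 := congrArg (fun q => q.coeff (i + N).toNat) hp0
  simp only [p, finsetSum_coeff, coeff_C_mul, coeff_X_pow, coeff_zero] at h2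
  rw [Finset.sum_eq_single i] at h2
  · simpa using h2
  · intro j hj hji
    have : (i + N).toNat ≠ (j + N).toNat := by
      have := hN i hi
      have := hN j hj
      omega
    simp [this]
  · intro h
    exact absurd hi h

end

section

variable (k : Type*) {F K : Type*} [Field k] [Field F] [Field K] [Algebra k F] [Algebra F K] [Algebra k K]
  [IsScalarTower k F K]

/-- The family `t ^ i`, `t ^ i w`. -/
def bas (t : F) (w : K) (p : ℤ × Fin 2) : K := (t ^ p.1 : F) • (![1, w] p.2)

omit [Field k] [Algebra k F] [Algebra k K] [IsScalarTower k F K] in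
theorem bas_zero (t : F) (w : K) (i : ℤ) : bas t w (i, 0) = algebraMap F K t ^ i := by
  simp [bas, Algebra.smul_def]

theorem bas_one (t : F) (w : K) (i : ℤ) : bas t w (i, 1) = algebraMap F K t ^ i * w := by
  simp [bas, Algebra.smul_def]

theorem bas_linearIndependent {t : F} (ht : Transcendental k t) {w : K}
    (hw : LinearIndependent F ![1, w]) : LinearIndependent k (bas t w) :=
  linearIndependent_smul (zpow_linearIndependent ht) hw

/-- `k[u] + k[u] v`. -/
def D (u : F) (v : K) : Submodule k K :=
  Submodule.span k (Set.range fun p : ℕ × Fin 2 => (u ^ p.1 : F) • (![1, v] p.2 : K))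

theorem mem_D_iff (u : F) (v : K) (x : K) :
    x ∈ D k u v ↔ ∃ a ∈ (aeval u : k[X] →ₐ[k] F).range, ∃ b ∈ (aeval u : k[X] →ₐ[k] F).range,
      x = algebraMap F K a + algebraMap F K b * v := by
  constructor
  · intro hx
    induction hx using Submodule.span_induction with
    | mem x hx =>
      obtain ⟨⟨i, j⟩, rfl⟩ := hx
      have hu : u ^ i ∈ (aeval u : k[X] →ₐ[k] F).range := ⟨X ^ i, by simp⟩
      fin_cases j
      · exact ⟨u ^ i, hu, 0, zero_mem _, by simp [Algebra.smul_def]⟩
      · exact ⟨0, zero_mem _, u ^ i, hu, by simp [Algebra.smul_def]⟩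
    | zero => exact ⟨0, zero_mem _, 0, zero_mem _, by simp⟩
    | add x y _ _ hx hy =>
      obtain ⟨a, ha, b, hb, rfl⟩ := hx
      obtain ⟨a', ha', b', hb', rfl⟩ := hy
      exact ⟨a + a', add_mem ha ha', b + b', add_mem hb hb', by simp only [map_add]; ring⟩
    | smul c x _ hx =>
      obtain ⟨a, ha, b, hb, rfl⟩ := hx
      refine ⟨c • a, Subalgebra.smul_mem _ ha c, c • b, Subalgebra.smul_mem _ hb c, ?_⟩
      simp only [Algebra.smul_def, map_mul, ← IsScalarTower.algebraMap_apply]
      ring
  · have key : ∀ (j : Fin 2) (p : k[X]), algebraMap F K (aeval u p) * (![1, v] j : K) ∈ D k u v := by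
      intro j p
      induction p using Polynomial.induction_on' with
      | add p q hp hq =>
        rw [map_add, map_add, add_mul]
        exact add_mem hp hq
      | monomial i c =>
        have h1 : algebraMap F K (aeval u (monomial i c)) * (![1, v] j : K) =
            c • ((u ^ i : F) • (![1, v] j : K)) := by
          simp only [aeval_monomial, map_mul, Algebra.smul_def, ← IsScalarTower.algebraMap_apply]
          ring
        rw [h1]
        exact Submodule.smul_mem _ _ (Submodule.subset_span ⟨(i, j), rfl⟩)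
    rintro ⟨a, ⟨p, rfl⟩, b, ⟨q, rfl⟩, rfl⟩
    refine add_mem ?_ ?_
    · have := key 0 p
      simpa using this
    · exact key 1 q

/-- The integral elements over `k[u]`. -/
theorem isIntegralElem_iff_mem_D {u : F} {v : K} {h f : F}
    (hρ : IntClosed (aeval u : k[X] →ₐ[k] F).toRingHom) (hg : Good (aeval u : k[X] →ₐ[k] F).toRingHom h f)
    (hh : h ∈ (aeval u : k[X] →ₐ[k] F).range) (hf : f ∈ (aeval u : k[X] →ₐ[k] F).range)
    (hv : v ^ 2 + algebraMap F K h * v = algebraMap F K f)
    (φ : K →ₐ[F] K) (hφ : φ v = - algebraMap F K h - v)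
    (hspan : ∀ x : K, ∃ a b : F, x = algebraMap F K a + algebraMap F K b * v) (x : K) :
    (aeval (algebraMap F K u) : k[X] →ₐ[k] K).toRingHom.IsIntegralElem x ↔ x ∈ D k u v := by
  have hc : (aeval (algebraMap F K u) : k[X] →ₐ[k] K).toRingHom =
      (algebraMap F K).comp (aeval u : k[X] →ₐ[k] F).toRingHom := by
    refine Polynomial.ringHom_ext (fun c => ?_) ?_
    · simp [← IsScalarTower.algebraMap_apply]
    · simp
  rw [hc, mem_D_iff]
  constructor
  · intro hx
    obtain ⟨a, b, rfl⟩ := hspan x
    obtain ⟨h1, h2⟩ := exists_of_isIntegralElem hρ hg v hv φ hφ a b hx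
    exact ⟨a, h1, b, h2, rfl⟩
  · rintro ⟨a, ⟨p, rfl⟩, b, ⟨q, rfl⟩, rfl⟩
    obtain ⟨h', rfl⟩ := hh
    obtain ⟨f', rfl⟩ := hf
    have hvi : ((algebraMap F K).comp (aeval u : k[X] →ₐ[k] F).toRingHom).IsIntegralElem v := by
      refine ⟨X ^ 2 + C h' * X - C f', by monicity!, ?_⟩
      simp only [eval₂_sub, eval₂_add, eval₂_pow, eval₂_X, eval₂_mul, eval₂_C]
      rw [sub_eq_zero]
      exact hv
    have h1 : ∀ r : k[X], ((algebraMap F K).comp (aeval u : k[X] →ₐ[k] F).toRingHom).IsIntegralElem
        (algebraMap F K (aeval u r)) := fun r => RingHom.isIntegralElem_map _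
    exact (h1 p).add _ ((h1 q).mul _ hvi)

end

section Localize

variable {k K : Type*} [Field k] [Field K] [Algebra k K]

theorem mem_adjoin_pair {t : K} (ht : t ≠ 0) {y : K} (hy : y ∈ Algebra.adjoin k {t, t⁻¹}) :
    ∃ m : ℕ, t ^ m * y ∈ Algebra.adjoin k {t} := by
  have htm : t ∈ Algebra.adjoin k {t} := Algebra.subset_adjoin rfl
  induction hy using Algebra.adjoin_induction with
  | mem x hx =>
    rcases hx with rfl | hx
    · exact ⟨0, by simp⟩
    · rw [Set.mem_singleton_iff] at hx
      subst hx
      exact ⟨1, by rw [pow_one, mul_inv_cancel₀ ht]; exact one_mem _⟩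
  | algebraMap r => exact ⟨0, by simp⟩
  | add x y _ _ hx hy =>
    obtain ⟨m, hm⟩ := hx
    obtain ⟨m', hm'⟩ := hy
    refine ⟨m + m', ?_⟩
    have : t ^ (m + m') * (x + y) = t ^ m' * (t ^ m * x) + t ^ m * (t ^ m' * y) := by ring
    rw [this]
    exact add_mem (mul_mem (pow_mem htm _) hm) (mul_mem (pow_mem htm _) hm')
  | mul x y _ _ hx hy =>
    obtain ⟨m, hm⟩ := hx
    obtain ⟨m', hm'⟩ := hy
    refine ⟨m + m', ?_⟩
    have : t ^ (m + m') * (x * y) = (t ^ m * x) * (t ^ m' * y) := by ring
    rw [this]
    exact mul_mem hm hm'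

/-- Elements integral over `k[t, t⁻¹]` become integral over `k[t]` after multiplication by a power of `t`. -/
theorem exists_pow_mul {t : K} (ht : t ≠ 0) {x : K}
    (hx : (Algebra.adjoin k {t, t⁻¹}).toSubring.subtype.IsIntegralElem x) :
    ∃ m : ℕ, (Algebra.adjoin k {t}).toSubring.subtype.IsIntegralElem (t ^ m * x) := by
  obtain ⟨p, hp, hpx⟩ := hx
  -- a common power clearing the denominators of the coefficients
  obtain ⟨N, hN⟩ : ∃ N : ℕ, ∀ i ∈ Finset.range p.natDegree,
      t ^ N * (p.coeff i : K) ∈ Algebra.adjoin k {t} := by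
    have htm : t ∈ Algebra.adjoin k {t} := Algebra.subset_adjoin rfl
    choose m hm using fun i => mem_adjoin_pair ht (p.coeff i).2
    refine ⟨(Finset.range p.natDegree).sum m, fun i hi => ?_⟩
    have h1 : m i ≤ (Finset.range p.natDegree).sum m :=
      Finset.single_le_sum (f := m) (fun _ _ => Nat.zero_le _) hi
    obtain ⟨r, hr⟩ := Nat.exists_eq_add_of_le h1
    rw [hr, pow_add, mul_assoc, mul_left_comm]
    exact mul_mem (pow_mem htm _) (hm i)
  refine ⟨N, ?_⟩
  have htm : t ∈ Algebra.adjoin k {t} := Algebra.subset_adjoin rfl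
  have hlt : ∀ i < p.natDegree, t ^ (N * (p.natDegree - i)) * (p.coeff i : K) ∈ Algebra.adjoin k {t} := by
    intro i hi
    obtain ⟨r, hr⟩ : ∃ r, p.natDegree - i = r + 1 := ⟨p.natDegree - i - 1, by omega⟩
    rw [hr, mul_add, mul_one, pow_add, mul_assoc]
    exact mul_mem (pow_mem htm _) (hN i (Finset.mem_range.mpr hi))
  let c : ℕ → (Algebra.adjoin k {t}).toSubring := fun i =>
    if hi : i < p.natDegree then ⟨t ^ (N * (p.natDegree - i)) * (p.coeff i : K), hlt i hi⟩ else 0
  let q : Polynomial (Algebra.adjoin k {t}).toSubring :=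
    X ^ p.natDegree + (Finset.range p.natDegree).sum fun i => C (c i) * X ^ i
  have hdeg : ((Finset.range p.natDegree).sum fun i => C (c i) * X ^ i).degree < (p.natDegree : WithBot ℕ) := by
    refine (Polynomial.degree_sum_le _ _).trans_lt ?_
    rw [Finset.sup_lt_iff (WithBot.bot_lt_coe _)]
    intro i hi
    exact (Polynomial.degree_C_mul_X_pow_le _ _).trans_lt (by exact_mod_cast Finset.mem_range.mp hi)
  refine ⟨q, Polynomial.monic_X_pow_add hdeg, ?_⟩
  have h1 : eval₂ (Algebra.adjoin k {t}).toSubring.subtype (t ^ N * x) q =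
      t ^ (N * p.natDegree) * eval₂ (Algebra.adjoin k {t, t⁻¹}).toSubring.subtype x p := by
    rw [Polynomial.eval₂_eq_sum_range (p := p), Finset.sum_range_succ, hp.coeff_natDegree]
    simp only [q, eval₂_add, eval₂_pow, eval₂_X, eval₂_finsetSum, eval₂_mul, eval₂_C]
    rw [mul_add, add_comm]
    congr 1
    · rw [Finset.mul_sum]
      refine Finset.sum_congr rfl fun i hi => ?_
      have hi' := Finset.mem_range.mp hi
      simp only [c, dif_pos hi']
      change t ^ (N * (p.natDegree - i)) * (p.coeff i : K) * (t ^ N * x) ^ i =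
        t ^ (N * p.natDegree) * ((p.coeff i : K) * x ^ i)
      obtain ⟨r, hr⟩ := Nat.exists_eq_add_of_lt hi'
      have h2 : p.natDegree - i = r + 1 := by omega
      rw [h2, hr]
      ring
    · simp only [map_one, one_mul]
      ring
  rw [h1, hpx, mul_zero]

end Localize

end K310.DoubleCoverSpan
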