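import Groth.Agent.CurvSt.K310.BasisCover
import Groth.Agent.CurvSt.K310.DoubleCoverExists

/-!
# Double covers of the projective line of every genus
-/

set_option autoImplicit false
set_option linter.style.haveILetI false
set_option linter.unusedSectionVars false

universe u

open CategoryTheory CategoryTheory.Limits AlgebraicGeometry Polynomial

namespace K310.HyperCover

open DoubleCoverAlg DoubleCoverSpan DoubleCoverData BasisCover

section

variable {k F K : Type*} [Field k] [Field F] [Field K] [Algebra k F] [Algebra F K] [Algebra k K]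
  [IsScalarTower k F K] {t : F} {w : K} {n : ℕ} {h f : F} (H : IsData k t w n h f)

theorem mem_range_aeval_iff (u y : F) : y ∈ (aeval u : k[X] →ₐ[k] F).range ↔ y ∈ Algebra.adjoin k {u} := by
  rw [Algebra.adjoin_singleton_eq_range_aeval]

theorem mem_toRingHom_range_iff (u y : F) :
    y ∈ (aeval u : k[X] →ₐ[k] F).toRingHom.range ↔ y ∈ Algebra.adjoin k {u} := by
  rw [Algebra.adjoin_singleton_eq_range_aeval]
  rfl

theorem comp_aeval (u : F) : (algebraMap F K).comp (aeval u : k[X] →ₐ[k] F).toRingHom =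
    (aeval (algebraMap F K u) : k[X] →ₐ[k] K).toRingHom := by
  refine Polynomial.ringHom_ext (fun c => ?_) ?_
  · simp [← IsScalarTower.algebraMap_apply]
  · simp

include H in
theorem isBasisData_of_isData : IsBasisData k t ![1, w] ![0, n] where
  ht := H.ht
  hB := H.hlin
  hspan x := by
    obtain ⟨a, b, rfl⟩ := H.hspan x
    exact ⟨![a, b], by simp [Algebra.smul_def]⟩
  h0 c := by
    have hs : ∑ j, c j • (![1, w] : Fin 2 → K) j = algebraMap F K (c 0) + algebraMap F K (c 1) * w := by
      simp [Algebra.smul_def]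
    rw [hs]
    constructor
    · intro hx
      obtain ⟨φ, hφ⟩ := H.hφ
      rw [isIntegralElem_iff, ← comp_aeval] at hx
      obtain ⟨h1, h2⟩ := exists_of_isIntegralElem H.int0 H.good0 w H.hw φ hφ (c 0) (c 1) hx
      rw [mem_toRingHom_range_iff] at h1 h2
      rw [Fin.forall_fin_two]
      exact ⟨h1, h2⟩
    · intro hc
      rw [H.chart0, image_S0]
      refine (mem_D_iff k t w _).mpr ⟨c 0, ?_, c 1, ?_, rfl⟩
      · rw [mem_range_aeval_iff]; exact hc 0
      · rw [mem_range_aeval_iff]; exact hc 1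
  h1 c := by
    have ht0 := H.ne_zero
    have htn : (t⁻¹ ^ n : F) ≠ 0 := pow_ne_zero _ (inv_ne_zero ht0)
    have hs : ∑ j, c j • (![1, w] : Fin 2 → K) j = algebraMap F K (c 0) +
        algebraMap F K (t ^ n * c 1) * (algebraMap F K (t⁻¹ ^ n) * w) := by
      have : algebraMap F K (t ^ n * c 1) * (algebraMap F K (t⁻¹ ^ n) * w) = algebraMap F K (c 1) * w := by
        rw [← mul_assoc, ← map_mul, inv_pow, mul_comm (t ^ n), mul_inv_cancel_right₀ (pow_ne_zero _ ht0)]
      rw [this]
      simp [Algebra.smul_def]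
    rw [hs]
    constructor
    · intro hx
      obtain ⟨φ, hφ⟩ := H.hφ
      rw [isIntegralElem_iff, ← map_inv₀, ← comp_aeval] at hx
      have hv : (algebraMap F K (t⁻¹ ^ n) * w) ^ 2 + algebraMap F K (t⁻¹ ^ n * h) * (algebraMap F K (t⁻¹ ^ n) * w) =
          algebraMap F K (t⁻¹ ^ (2 * n) * f) := by
        have := congrArg (fun y => algebraMap F K (t⁻¹ ^ (2 * n)) * y) H.hw
        rw [map_mul (algebraMap F K) (t⁻¹ ^ (2 * n)) f, ← this, map_mul, two_mul, pow_add, map_mul]
        ring
      have hφv : φ (algebraMap F K (t⁻¹ ^ n) * w) = - algebraMap F K (t⁻¹ ^ n * h) -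
          algebraMap F K (t⁻¹ ^ n) * w := by
        rw [map_mul, AlgHom.commutes, hφ, map_mul]
        ring
      obtain ⟨h1, h2⟩ := exists_of_isIntegralElem H.int1 H.good1 _ hv φ hφv _ _ hx
      rw [mem_toRingHom_range_iff] at h1 h2
      rw [Fin.forall_fin_two]
      refine ⟨by simpa using h1, by simpa using h2⟩
    · intro hc
      rw [H.chart1, image_S1 t]
      refine (mem_D_iff k t⁻¹ _ _).mpr ⟨c 0, ?_, t ^ n * c 1, ?_, rfl⟩
      · rw [mem_range_aeval_iff]; simpa using hc 0
      · rw [mem_range_aeval_iff]; simpa using hc 1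

end

/-- **Hyperelliptic covers of every genus**: a smooth proper connected curve of genus `g`, finite locally free of
degree two over the projective line. -/
theorem exists_hyper (k : Type u) [Field k] [IsAlgClosed k] (g : ℕ) :
    ∃ (X : Scheme.{u}) (f : X ⟶ Spec (CommRingCat.of k)), Curve.IsSmoothProperCurve k X f ∧
      @Curv2.genus k _ X ⟨f⟩ = g ∧ ∃ π : X ⟶ CohB1.ProjSpace 1 k,
        π ≫ CohB1.ProjSpace.toSpec 1 k = f ∧ Mor2.IsFinLocFreeOfDeg 2 π := by
  obtain ⟨h, f, K, _, _, _, _, _, w, htr, H⟩ := DoubleCoverExists.hasData k (g + 1) (by omega)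
  obtain ⟨X, ν, h1, h2, h3⟩ := (isBasisData_of_isData H).exists_cover htr
  refine ⟨X, _, h2, ?_, ν, rfl, h1⟩
  rw [h3]
  simp

end K310.HyperCover
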