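import Groth.Agent.Ega2.P1

/-!
# The projective line over a field and the point `[1 : t]`, with the intersection of the two charts

`K310.LineTwoCharts.exists_P1`: as `Ega2.P1.exists_P1`, with the sections over the intersection of the
two standard charts, which meet `K` in `k[t, t⁻¹]`.
-/

set_option autoImplicit false

universe u

open CategoryTheory AlgebraicGeometry HomogeneousLocalization

namespace K310.LineTwoCharts

open Groth.Agent.Ega2.P1 MvPolynomial CohB1

theorem range_ev_mul (k : Type u) [Field k] (K : Type u) [Field K] [Algebra k K] (t : K) (ht : t ≠ 0)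
    (hu : IsUnit ((aeval ![1, t] : MvPolynomial (Fin (1 + 1)) k →ₐ[k] K).toRingHom (X 0 * X 1))) :
    (ev (polyGrading 1 k) (aeval ![1, t] : MvPolynomial (Fin (1 + 1)) k →ₐ[k] K).toRingHom
      (X 0 * X 1) hu).range = (Algebra.adjoin k {t, t⁻¹}).toSubring := by
  have hi1 : (X 0 * X 1 : MvPolynomial (Fin (1 + 1)) k) ∈ polyGrading 1 k 2 :=
    (isHomogeneous_X _ _).mul (isHomogeneous_X _ _)
  have key : ∀ (n : ℕ) (a : MvPolynomial (Fin (1 + 1)) k) (ha : a ∈ polyGrading 1 k (n • 2)),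
      ev (polyGrading 1 k) (aeval ![1, t] : MvPolynomial (Fin (1 + 1)) k →ₐ[k] K).toRingHom
        (X 0 * X 1) hu (Away.mk (polyGrading 1 k) hi1 n a ha) = aeval ![1, t] a * (t⁻¹) ^ n := by
    intro n a ha
    have h1 := ev_mk (polyGrading 1 k) (aeval ![1, t] : MvPolynomial (Fin (1 + 1)) k →ₐ[k] K).toRingHom
      hu hi1 n a ha
    have h2 : (aeval ![1, t] : MvPolynomial (Fin (1 + 1)) k →ₐ[k] K).toRingHom (X 0 * X 1) = t := by
      simp
    rw [h2] at h1
    rw [inv_pow, eq_mul_inv_iff_mul_eq₀ (pow_ne_zero _ ht)]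
    exact h1
  ext x
  constructor
  · rintro ⟨y, rfl⟩
    obtain ⟨n, a, ha, rfl⟩ := Away.mk_surjective (polyGrading 1 k) hi1 y
    rw [key]
    have h1 : (aeval ![1, t] a : K) ∈ Algebra.adjoin k (Set.range ![1, t]) := by
      rw [Algebra.adjoin_range_eq_range_aeval]
      exact ⟨a, rfl⟩
    have h2 : (aeval ![1, t] a : K) ∈ Algebra.adjoin k {t, t⁻¹} := by
      refine Algebra.adjoin_le ?_ h1
      rintro _ ⟨l, rfl⟩
      fin_cases l
      · exact one_mem _
      · exact Algebra.subset_adjoin (by simp)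
    exact mul_mem h2 (pow_mem (Algebra.subset_adjoin (by simp)) n)
  · intro hx
    have hx' : x ∈ Algebra.adjoin k {t, t⁻¹} := hx
    clear hx
    induction hx' using Algebra.adjoin_induction with
    | mem y hy =>
      rcases hy with rfl | hy
      · refine ⟨Away.mk (polyGrading 1 k) hi1 1 (X 1 * X 1)
          ((isHomogeneous_X _ _).mul (isHomogeneous_X _ _)), ?_⟩
        rw [key]
        simp [ht]
      · rw [Set.mem_singleton_iff] at hy
        subst hy
        refine ⟨Away.mk (polyGrading 1 k) hi1 1 (X 0 * X 0)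
          ((isHomogeneous_X _ _).mul (isHomogeneous_X _ _)), ?_⟩
        rw [key]
        simp
    | algebraMap r =>
      refine ⟨Away.mk (polyGrading 1 k) hi1 0 (C r) (isHomogeneous_C _ _), ?_⟩
      rw [key]
      simp
    | add y z _ _ hy hz => exact add_mem hy hz
    | mul y z _ _ hy hz => exact mul_mem hy hz

theorem appLE_congr {Y P : Scheme.{u}} {f f' : Y ⟶ P} (hf : f = f') (U : P.Opens)
    (h : ⊤ ≤ f ⁻¹ᵁ U) (h' : ⊤ ≤ f' ⁻¹ᵁ U) : f.appLE U ⊤ h = f'.appLE U ⊤ h' := by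
  subst hf
  rfl

theorem isProper_toSpec (k : Type u) [Field k] : IsProper (ProjSpace.toSpec 1 k) :=
  Groth.Agent.Dix.ProjProper.isProper_toSpec 1 k

/-- The projective line, with the ranges in `K` of the sections over the two charts and over their
intersection. -/
theorem exists_P1_aux (k : Type u) [Field k] (K : Type u) [Field K] [Algebra k K] (t : K)
    (ht : t ≠ 0) :
    ∃ (f : Spec (CommRingCat.of K) ⟶ Proj (polyGrading 1 k))
      (_ : f ≫ Proj.toSpecZero (polyGrading 1 k) ≫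
        Spec.map (CommRingCat.ofHom (algebraMap k (polyGrading 1 k 0))) =
          Spec.map (CommRingCat.ofHom (algebraMap k K)))
      (U0 U1 : (Proj (polyGrading 1 k)).Opens),
      IsAffineOpen U0 ∧ IsAffineOpen U1 ∧ IsAffineOpen (U0 ⊓ U1) ∧ U0 ⊔ U1 = ⊤ ∧
      ∃ (h0 : f ⁻¹ᵁ U0 = ⊤) (h1 : f ⁻¹ᵁ U1 = ⊤) (h01 : f ⁻¹ᵁ (U0 ⊓ U1) = ⊤),
        ((f.appLE U0 ⊤ (by rw [h0])) ≫ (Scheme.ΓSpecIso (CommRingCat.of K)).hom).hom.range =
          (Algebra.adjoin k {t}).toSubring ∧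
        ((f.appLE U1 ⊤ (by rw [h1])) ≫ (Scheme.ΓSpecIso (CommRingCat.of K)).hom).hom.range =
          (Algebra.adjoin k {t⁻¹}).toSubring ∧
        ((f.appLE (U0 ⊓ U1) ⊤ (by rw [h01])) ≫ (Scheme.ΓSpecIso (CommRingCat.of K)).hom).hom.range =
          (Algebra.adjoin k {t, t⁻¹}).toSubring := by
  let c : Fin (1 + 1) → K := ![1, t]
  let g : MvPolynomial (Fin (1 + 1)) k →+* K :=
    (aeval c : MvPolynomial (Fin (1 + 1)) k →ₐ[k] K).toRingHom
  have hu : ∀ i : Fin (1 + 1), IsUnit (g (X i)) := by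
    intro i
    fin_cases i
    · simp [g, c]
    · simpa [g, c] using ht
  have hu01 : IsUnit (g (X 0 * X 1)) := by rw [map_mul]; exact (hu 0).mul (hu 1)
  have hX : ∀ i : Fin (1 + 1), (X i : MvPolynomial (Fin (1 + 1)) k) ∈ polyGrading 1 k 1 :=
    fun i => isHomogeneous_X _ _
  have hX01 : (X 0 * X 1 : MvPolynomial (Fin (1 + 1)) k) ∈ polyGrading 1 k 2 := (hX 0).mul (hX 1)
  let φ : ∀ i : Fin (1 + 1), CommRingCat.of (Away (polyGrading 1 k) (X i)) ⟶ CommRingCat.of K :=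
    fun i => CommRingCat.ofHom (ev (polyGrading 1 k) g (X i) (hu i))
  let φ01 : CommRingCat.of (Away (polyGrading 1 k) (X 0 * X 1)) ⟶ CommRingCat.of K :=
    CommRingCat.ofHom (ev (polyGrading 1 k) g (X 0 * X 1) hu01)
  let j : ∀ i : Fin (1 + 1), Spec (CommRingCat.of (Away (polyGrading 1 k) (X i))) ⟶
      Proj (polyGrading 1 k) := fun i => Proj.awayι (polyGrading 1 k) (X i) (hX i) one_pos
  let j01 : Spec (CommRingCat.of (Away (polyGrading 1 k) (X 0 * X 1))) ⟶
      Proj (polyGrading 1 k) := Proj.awayι (polyGrading 1 k) (X 0 * X 1) hX01 two_pos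
  have hj : ∀ i, IsOpenImmersion (j i) := fun i =>
    inferInstanceAs (IsOpenImmersion (Proj.awayι (polyGrading 1 k) (X i) (hX i) one_pos))
  have hj01 : IsOpenImmersion j01 :=
    inferInstanceAs (IsOpenImmersion (Proj.awayι (polyGrading 1 k) (X 0 * X 1) hX01 two_pos))
  have hjφ : Spec.map (φ 0) ≫ j 0 = Spec.map (φ 1) ≫ j 1 :=
    SpecMap_ev_awayι (polyGrading 1 k) g (hu 0) (hu 1) (hX 0) one_pos (hX 1) one_pos
  have hjφ01 : Spec.map (φ 0) ≫ j 0 = Spec.map φ01 ≫ j01 :=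
    SpecMap_ev_awayι (polyGrading 1 k) g (hu 0) hu01 (hX 0) one_pos hX01 two_pos
  have hr : ∀ i, (j i).opensRange = Proj.basicOpen (polyGrading 1 k) (X i) := fun i =>
    Proj.opensRange_awayι (polyGrading 1 k) (X i) (hX i) one_pos
  have hr01 : j01.opensRange = Proj.basicOpen (polyGrading 1 k) (X 0 * X 1) :=
    Proj.opensRange_awayι (polyGrading 1 k) (X 0 * X 1) hX01 two_pos
  have hinf : (j 0).opensRange ⊓ (j 1).opensRange = j01.opensRange := by
    rw [hr, hr, hr01, Proj.basicOpen_mul]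
  have h0 : (Spec.map (φ 0) ≫ j 0) ⁻¹ᵁ (j 0).opensRange = ⊤ := by ext x; simp
  have h1 : (Spec.map (φ 0) ≫ j 0) ⁻¹ᵁ (j 1).opensRange = ⊤ := by rw [hjφ]; ext x; simp
  have h01 : (Spec.map (φ 0) ≫ j 0) ⁻¹ᵁ ((j 0).opensRange ⊓ (j 1).opensRange) = ⊤ := by
    rw [hinf, hjφ01]; ext x; simp
  refine ⟨Spec.map (φ 0) ≫ j 0, ?_,
    (j 0).opensRange, (j 1).opensRange, isAffineOpen_opensRange _, isAffineOpen_opensRange _, ?_, ?_,
    h0, h1, h01, ?_, ?_, ?_⟩
  · rw [Category.assoc, Proj.awayι_toSpecZero_assoc, ← Spec.map_comp,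
      ← Spec.map_comp, ← CommRingCat.ofHom_comp, ← CommRingCat.ofHom_comp]
    congr 2
    exact ev_comp_fromZero k K c (X 0) (hu 0)
  · rw [hinf]
    exact isAffineOpen_opensRange _
  · rw [hr 0, hr 1, ← Groth.Agent.PerfB.ProjSpaceCover.iSup_basicOpen_X 1 k]
    refine le_antisymm (sup_le ?_ ?_) (iSup_le fun i => ?_)
    · exact le_iSup (fun j : Fin (1 + 1) => Proj.basicOpen (polyGrading 1 k) (X j)) 0
    · exact le_iSup (fun j : Fin (1 + 1) => Proj.basicOpen (polyGrading 1 k) (X j)) 1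
    · fin_cases i
      · exact le_sup_left
      · exact le_sup_right
  · rw [range_appLE (j 0) (φ 0) _ rfl]
    have h6 := range_ev k K 0 1 (by intro l; fin_cases l <;> simp) c (by simp [c]) (hu 0)
    have h7 : c 1 / c 0 = t := by simp [c]
    rw [h7] at h6
    exact h6
  · rw [appLE_congr hjφ _ _ (by rw [Scheme.Hom.comp_preimage]; simp), range_appLE (j 1) (φ 1) _ rfl]
    have h6 := range_ev k K 1 0 (by intro l; fin_cases l <;> simp) c (by simp [c, ht]) (hu 1)
    have h7 : c 0 / c 1 = t⁻¹ := by simp [c]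
    rw [h7] at h6
    exact h6
  · rw [appLE_congr hjφ01 _ _ (by rw [hinf, Scheme.Hom.comp_preimage]; simp),
      range_appLE j01 φ01 _ hinf]
    exact range_ev_mul k K t ht hu01

/-- The projective line, with the ranges in `K` of the sections over the two charts and over their
intersection. -/
theorem exists_P1 (k : Type u) [Field k] (K : Type u) [Field K] [Algebra k K] (t : K)
    (ht : t ≠ 0) :
    ∃ (f : Spec (CommRingCat.of K) ⟶ ProjSpace 1 k)
      (_ : f ≫ ProjSpace.toSpec 1 k = Spec.map (CommRingCat.ofHom (algebraMap k K)))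
      (U0 U1 : (ProjSpace 1 k).Opens),
      IsAffineOpen U0 ∧ IsAffineOpen U1 ∧ IsAffineOpen (U0 ⊓ U1) ∧ U0 ⊔ U1 = ⊤ ∧
      ∃ (h0 : f ⁻¹ᵁ U0 = ⊤) (h1 : f ⁻¹ᵁ U1 = ⊤) (h01 : f ⁻¹ᵁ (U0 ⊓ U1) = ⊤),
        ((f.appLE U0 ⊤ (by rw [h0])) ≫ (Scheme.ΓSpecIso (CommRingCat.of K)).hom).hom.range =
          (Algebra.adjoin k {t}).toSubring ∧
        ((f.appLE U1 ⊤ (by rw [h1])) ≫ (Scheme.ΓSpecIso (CommRingCat.of K)).hom).hom.range =
          (Algebra.adjoin k {t⁻¹}).toSubring ∧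
        ((f.appLE (U0 ⊓ U1) ⊤ (by rw [h01])) ≫ (Scheme.ΓSpecIso (CommRingCat.of K)).hom).hom.range =
          (Algebra.adjoin k {t, t⁻¹}).toSubring :=
  exists_P1_aux k K t ht

end K310.LineTwoCharts
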