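import Groth.Agent.CurvSt.K310.LineTwoCharts
import Groth.Agent.Ega2.NormCurve
import Groth.Agent.Ega2.NormalCompl
import Groth.Agent.Pi1.H386.NormalCurve
import Groth.Agent.CohqA.TwoChart
import Groth.Agent.CurvSt.K310.DoubleCoverSpan
import Groth.Prelude.Def_Curve

/-!
# The genus of the smooth proper curve with a given function field

Let `K` be a function field of one variable over an algebraically closed field `k` and `t ∈ K`
transcendental.  The normalization `X` of `P¹` in `K` is a smooth proper curve, and `H¹(X, O_X)` is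
`C / (A + B)` for the `k`-spaces `A`, `B`, `C` of the elements of `K` integral over `k[t]`, `k[t⁻¹]`,
`k[t, t⁻¹]`.
-/

set_option autoImplicit false
set_option linter.style.haveILetI false
set_option linter.unusedSectionVars false

universe u

open CategoryTheory CategoryTheory.Limits AlgebraicGeometry Polynomial

namespace K310.NormGenus

open Groth.Agent Groth.Agent.Ega2.NormChart

variable {k : Type u} [Field k] {K : Type u} [Field K] [Algebra k K] {P : Scheme.{u}}
  (f : Spec (CommRingCat.of K) ⟶ P) [QuasiCompact f] [QuasiSeparated f]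

theorem normToK_res {U V : P.Opens} (hU : f ⁻¹ᵁ U = ⊤) (hV : f ⁻¹ᵁ V = ⊤)
    (h : f.fromNormalization ⁻¹ᵁ V ≤ f.fromNormalization ⁻¹ᵁ U)
    (a : Γ(f.normalization, f.fromNormalization ⁻¹ᵁ U)) :
    normToK f V hV (CohqB.QC2.resR h a) = normToK f U hU a := by
  simp only [normToK, CohqB.QC2.resR]
  rw [← RingHom.comp_apply, ← CommRingCat.hom_comp, ← Category.assoc, Scheme.Hom.map_appLE]

theorem normToK_base [(f.normalization).Over (Spec (CommRingCat.of k))]
    (hf : f.toNormalization ≫ (f.normalization ↘ Spec (CommRingCat.of k)) =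
      Spec.map (CommRingCat.ofHom (algebraMap k K))) {U : P.Opens} (hU : f ⁻¹ᵁ U = ⊤) (c : k) :
    normToK f U hU (CohqA.TwoChart.baseHom f.normalization _ c) = algebraMap k K c := by
  have h2 : (Scheme.ΓSpecIso (CommRingCat.of k)).inv ≫
      (f.normalization ↘ Spec (CommRingCat.of k)).appTop ≫
        f.normalization.presheaf.map (homOfLE le_top).op ≫
        f.toNormalization.appLE (f.fromNormalization ⁻¹ᵁ U) ⊤
          (by rw [← Scheme.Hom.comp_preimage, Scheme.Hom.toNormalization_fromNormalization, hU]) ≫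
        (Scheme.ΓSpecIso (CommRingCat.of K)).hom = CommRingCat.ofHom (algebraMap k K) := by
      rw [Scheme.Hom.map_appLE_assoc]
      have h3 : f.toNormalization.appLE ⊤ ⊤ le_top = f.toNormalization.appTop :=
        (Scheme.Hom.app_eq_appLE _).symm
      rw [h3, ← Scheme.Hom.comp_appTop_assoc, hf]
      rw [← Scheme.ΓSpecIso_inv_naturality_assoc, Iso.inv_hom_id, Category.comp_id]
  exact congrArg (fun φ => φ.hom c) h2

theorem isIntegralElem_iff_of_range {R₁ R₂ S : Type*} [CommRing R₁] [CommRing R₂] [CommRing S]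
    (ρ₁ : R₁ →+* S) (ρ₂ : R₂ →+* S) (h : ρ₁.range = ρ₂.range) (x : S) :
    ρ₁.IsIntegralElem x ↔ ρ₂.IsIntegralElem x :=
  ⟨isIntegralElem_of_range_le ρ₁ ρ₂ h.le, isIntegralElem_of_range_le ρ₂ ρ₁ h.ge⟩

theorem mem_range_iff {U : P.Opens} (hfU : f ⁻¹ᵁ U = ⊤) (hU : IsAffineOpen U) (O : Subring K)
    (hr : (toK f U hfU).range = O) (x : K) :
    x ∈ (normToK f U hfU).range ↔ O.subtype.IsIntegralElem x := by
  rw [mem_range_normToK f U hfU hU]
  exact isIntegralElem_iff_of_range _ _ (by rw [hr, Subring.range_subtype]) x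

/-- The normalization of the projective line in `K`, with the two charts. -/
theorem exists_data (k : Type u) [Field k] [IsAlgClosed k] (K : Type u) [Field K] [Algebra k K]
    [Algebra.EssFiniteType k K] (htr : Algebra.trdeg k K = 1) (t : K) (ht : Transcendental k t)
    {ι : Type*} (b : ι → K) (hb : LinearIndependent k b) (S0 S1 : Set ι)
    (h0 : ∀ x, (Algebra.adjoin k {t}).toSubring.subtype.IsIntegralElem x ↔
      x ∈ Submodule.span k (b '' S0))
    (h1 : ∀ x, (Algebra.adjoin k {t⁻¹}).toSubring.subtype.IsIntegralElem x ↔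
      x ∈ Submodule.span k (b '' S1))
    (h01 : ∀ x, (Algebra.adjoin k {t, t⁻¹}).toSubring.subtype.IsIntegralElem x ↔
      x ∈ Submodule.span k (Set.range b)) :
    ∃ (f : Spec (CommRingCat.of K) ⟶ CohB1.ProjSpace 1 k) (_ : QuasiCompact f) (_ : QuasiSeparated f)
      (U0 U1 : (CohB1.ProjSpace 1 k).Opens) (hf0 : f ⁻¹ᵁ U0 = ⊤) (hf1 : f ⁻¹ᵁ U1 = ⊤),
      (f ≫ CohB1.ProjSpace.toSpec 1 k = Spec.map (CommRingCat.ofHom (algebraMap k K)) ∧
      IsAffineOpen U0 ∧ IsAffineOpen U1 ∧ U0 ⊔ U1 = ⊤ ∧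
      (toK f U0 hf0).range = (Algebra.adjoin k {t}).toSubring ∧
      (toK f U1 hf1).range = (Algebra.adjoin k {t⁻¹}).toSubring) ∧
      IsFinite f.fromNormalization ∧
      Curve.IsSmoothProperCurve k f.normalization (f.fromNormalization ≫ CohB1.ProjSpace.toSpec 1 k) ∧
      @Curv2.genus k _ f.normalization ⟨f.fromNormalization ≫ CohB1.ProjSpace.toSpec 1 k⟩ =
        Nat.card ((S0 ∪ S1)ᶜ : Set ι) := by
  have ht0 : t ≠ 0 := by
    rintro rfl
    exact ht isAlgebraic_zero
  have hti : Transcendental k t⁻¹ := fun h => ht (by simpa using h.inv)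
  obtain ⟨f, hf, U0, U1, hU0, hU1, hU01, hcov, hf0, hf1, hf01, hr0, hr1, hr01⟩ :=
    LineTwoCharts.exists_P1 k K t ht0
  haveI := LineTwoCharts.isProper_toSpec k
  haveI : QuasiCompact (f ≫ CohB1.ProjSpace.toSpec 1 k) := by rw [hf]; infer_instance
  haveI : QuasiSeparated (f ≫ CohB1.ProjSpace.toSpec 1 k) := by rw [hf]; infer_instance
  haveI : QuasiCompact f := .of_comp f (CohB1.ProjSpace.toSpec 1 k)
  haveI : QuasiSeparated f := .of_comp f (CohB1.ProjSpace.toSpec 1 k)
  have hc0 := chart (k := k) f U0 hf0 hU0 t ht htr hr0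
  have hc1 := chart (k := k) f U1 hf1 hU1 t⁻¹ hti htr hr1
  let U : Fin 2 → (CohB1.ProjSpace 1 k).Opens := ![U0, U1]
  have hcov' : ⨆ i, U i = ⊤ := by
    rw [← hcov]
    refine le_antisymm (iSup_le fun i => ?_) (sup_le (le_iSup U 0) (le_iSup U 1))
    fin_cases i
    · exact le_sup_left
    · exact le_sup_right
  haveI hfin : IsFinite f.fromNormalization := by
    refine Ega2.NormCurve.isFinite_of_cover _ U ?_ hcov' ?_
    · intro i
      fin_cases i
      · exact hU0
      · exact hU1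
    · intro i
      fin_cases i
      · exact hc0.1
      · exact hc1.1
  let p : f.normalization ⟶ Spec (CommRingCat.of k) := f.fromNormalization ≫ CohB1.ProjSpace.toSpec 1 k
  letI hover : f.normalization.Over (Spec (CommRingCat.of k)) := ⟨p⟩
  haveI hp : IsProper p := by
    change IsProper (f.fromNormalization ≫ CohB1.ProjSpace.toSpec 1 k)
    infer_instance
  haveI hp' : IsProper (f.normalization ↘ Spec (CommRingCat.of k)) := hp
  have hW : ∀ x : f.normalization, x ∈ f.fromNormalization ⁻¹ᵁ U0 ∨ x ∈ f.fromNormalization ⁻¹ᵁ U1 := by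
    intro x
    have : f.fromNormalization x ∈ U0 ⊔ U1 := by rw [hcov]; trivial
    simpa using this
  have hW0 : IsAffineOpen (f.fromNormalization ⁻¹ᵁ U0) := hU0.preimage _
  have hW1 : IsAffineOpen (f.fromNormalization ⁻¹ᵁ U1) := hU1.preimage _
  have hnorm : Pi1.IsNormalScheme f.normalization := by
    intro x
    rcases hW x with hx | hx
    · haveI := hc0.2.1
      exact (Ega2.NormCurve.stalk_of_dedekind hW0 hc0.2.2.1 x hx).1
    · haveI := hc1.2.1
      exact (Ega2.NormCurve.stalk_of_dedekind hW1 hc1.2.2.1 x hx).1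
  have hst : ∀ x : f.normalization, IsClosed ({x} : Set f.normalization) →
      ringKrullDim (f.normalization.presheaf.stalk x) = 1 := by
    intro x hx'
    rcases hW x with hx | hx
    · haveI := hc0.2.1
      exact (Ega2.NormCurve.stalk_of_dedekind hW0 hc0.2.2.1 x hx).2 hx'
    · haveI := hc1.2.1
      exact (Ega2.NormCurve.stalk_of_dedekind hW1 hc1.2.2.1 x hx).2 hx'
  haveI : CompactSpace f.normalization :=
    QuasiCompact.compactSpace_of_compactSpace (f.normalization ↘ Spec (CommRingCat.of k))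
  have hdim : topologicalKrullDim f.normalization = 1 := by
    rw [VarietyB.DimSch.topologicalKrullDim_eq_trd k, Ega2.NormalCompl.trd_eq_one k hst]
    rfl
  have hsm : Smooth p := Pi1.H386.NormalCurve.smooth_of_normal k p hnorm hdim.le
  refine ⟨f, inferInstance, inferInstance, U0, U1, hf0, hf1, ⟨hf, hU0, hU1, hcov, hr0, hr1⟩, hfin,
    ⟨hp, hsm, inferInstance, hdim⟩, ?_⟩
  -- the genus
  have hcovW : f.fromNormalization ⁻¹ᵁ U0 ⊔ f.fromNormalization ⁻¹ᵁ U1 = ⊤ := by
    rw [← Scheme.Hom.preimage_sup, hcov]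
    rfl
  have hbase : f.toNormalization ≫ (f.normalization ↘ Spec (CommRingCat.of k)) =
      Spec.map (CommRingCat.ofHom (algebraMap k K)) := by
    change f.toNormalization ≫ f.fromNormalization ≫ CohB1.ProjSpace.toSpec 1 k = _
    rw [Scheme.Hom.toNormalization_fromNormalization_assoc, hf]
  letI : Algebra k Γ(f.normalization, f.fromNormalization ⁻¹ᵁ U0 ⊓ f.fromNormalization ⁻¹ᵁ U1) :=
    (CohqA.TwoChart.baseHom f.normalization _).toAlgebra
  have hmod : ∀ (a : k) (z : Γ(f.normalization, f.fromNormalization ⁻¹ᵁ U0 ⊓ f.fromNormalization ⁻¹ᵁ U1)),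
      a • z = CohqA.TwoChart.baseHom f.normalization _ a * z := fun a z => Algebra.smul_def a z
  let J : Γ(f.normalization, f.fromNormalization ⁻¹ᵁ U0 ⊓ f.fromNormalization ⁻¹ᵁ U1) →+* K :=
    normToK f (U0 ⊓ U1) hf01
  have hJ : ∀ a, J (CohqA.TwoChart.baseHom f.normalization _ a) = algebraMap k K a :=
    fun a => normToK_base f hbase hf01 a
  let j : Γ(f.normalization, f.fromNormalization ⁻¹ᵁ U0 ⊓ f.fromNormalization ⁻¹ᵁ U1) →ₗ[k] K :=
    { toFun := J
      map_add' := map_add _
      map_smul' := fun a z => by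
        rw [hmod, map_mul, hJ, RingHom.id_apply, Algebra.smul_def] }
  have hjr : LinearMap.range j = Submodule.span k (Set.range b) := by
    ext x
    rw [← h01, ← mem_range_iff f hf01 hU01 _ hr01]
    rfl
  have hjinj : Function.Injective j := normToK_injective f (U0 ⊓ U1) hf01 hU01
  have hle0 : f.fromNormalization ⁻¹ᵁ (U0 ⊓ U1) ≤ f.fromNormalization ⁻¹ᵁ U0 := fun _ hx => hx.1
  have hle1 : f.fromNormalization ⁻¹ᵁ (U0 ⊓ U1) ≤ f.fromNormalization ⁻¹ᵁ U1 := fun _ hx => hx.2
  have hres0 : ∀ a : Γ(f.normalization, f.fromNormalization ⁻¹ᵁ U0),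
      j (CohqB.QC2.resR inf_le_left a) = normToK f U0 hf0 a := fun a =>
    normToK_res f hf0 hf01 hle0 a
  have hres1 : ∀ a : Γ(f.normalization, f.fromNormalization ⁻¹ᵁ U1),
      j (CohqB.QC2.resR inf_le_right a) = normToK f U1 hf1 a := fun a =>
    normToK_res f hf1 hf01 hle1 a
  let N : Submodule k Γ(f.normalization, f.fromNormalization ⁻¹ᵁ U0 ⊓ f.fromNormalization ⁻¹ᵁ U1) :=
    (Submodule.span k (b '' (S0 ∪ S1))).comap j
  have hN : ∀ z, z ∈ N ↔ j z ∈ Submodule.span k (b '' (S0 ∪ S1)) := fun z => Iff.rfl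
  have hN' : ∀ z, z ∈ N ↔ ∃ (a : Γ(f.normalization, f.fromNormalization ⁻¹ᵁ U0))
      (b : Γ(f.normalization, f.fromNormalization ⁻¹ᵁ U1)),
      CohqB.QC2.resR inf_le_left a - CohqB.QC2.resR inf_le_right b = z := by
    intro z
    rw [hN, Set.image_union, Submodule.span_union, Submodule.mem_sup]
    constructor
    · rintro ⟨x, hx, y, hy, hxy⟩
      rw [← h0, ← mem_range_iff f hf0 hU0 _ hr0] at hx
      rw [← h1, ← mem_range_iff f hf1 hU1 _ hr1] at hy
      obtain ⟨a, rfl⟩ := hx
      obtain ⟨c, rfl⟩ := hy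
      refine ⟨a, -c, hjinj ?_⟩
      rw [map_sub, hres0, map_neg, map_neg, hres1, ← hxy]
      ring
    · rintro ⟨a, c, rfl⟩
      refine ⟨normToK f U0 hf0 a, ?_, normToK f U1 hf1 (-c), ?_, ?_⟩
      · rw [← h0, ← mem_range_iff f hf0 hU0 _ hr0]
        exact ⟨a, rfl⟩
      · rw [← h1, ← mem_range_iff f hf1 hU1 _ hr1]
        exact ⟨_, rfl⟩
      · rw [map_sub, hres0, hres1, map_neg]
        ring
  have hq := CohqA.TwoChart.finrank_quotient_eq (X := f.normalization) hW0 hW1 hcovW hmod N hN'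
  rw [DoubleCoverSpan.finrank_quot b hb (S0 ∪ S1) j hjr N hN] at hq
  exact hq.symm

/-- The general form: the normalization of the projective line in `K`. -/
theorem exists_curve (k : Type u) [Field k] [IsAlgClosed k] (K : Type u) [Field K] [Algebra k K]
    [Algebra.EssFiniteType k K] (htr : Algebra.trdeg k K = 1) (t : K) (ht : Transcendental k t)
    {ι : Type*} (b : ι → K) (hb : LinearIndependent k b) (S0 S1 : Set ι)
    (h0 : ∀ x, (Algebra.adjoin k {t}).toSubring.subtype.IsIntegralElem x ↔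
      x ∈ Submodule.span k (b '' S0))
    (h1 : ∀ x, (Algebra.adjoin k {t⁻¹}).toSubring.subtype.IsIntegralElem x ↔
      x ∈ Submodule.span k (b '' S1))
    (h01 : ∀ x, (Algebra.adjoin k {t, t⁻¹}).toSubring.subtype.IsIntegralElem x ↔
      x ∈ Submodule.span k (Set.range b)) :
    ∃ (X : Scheme.{u}) (ν : X ⟶ CohB1.ProjSpace 1 k), IsFinite ν ∧
      Curve.IsSmoothProperCurve k X (ν ≫ CohB1.ProjSpace.toSpec 1 k) ∧
      @Curv2.genus k _ X ⟨ν ≫ CohB1.ProjSpace.toSpec 1 k⟩ = Nat.card ((S0 ∪ S1)ᶜ : Set ι) := by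
  obtain ⟨f, _, _, U0, U1, hf0, hf1, -, h⟩ := exists_data k K htr t ht b hb S0 S1 h0 h1 h01
  exact ⟨f.normalization, f.fromNormalization, h⟩

end K310.NormGenus
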